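import Groth.Agent.RPushSite.Bounded
import Groth.Agent.HDU.EventuallyConstant

/-!
Weak Serre subcategories and `Rf_*`.
-/

set_option autoImplicit false
set_option linter.style.haveILetI false
set_option linter.unusedSectionVars false
set_option backward.isDefEq.respectTransparency false
set_option backward.isDefEq.respectTransparency.types false
set_option maxHeartbeats 1000000

universe u

open CategoryTheory Category Limits Opposite Pretriangulated DerivedCategory DerivedCategory.TStructure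

namespace Groth.Agent.RPushSite

attribute [local instance] HasDerivedCategory.standard

variable {C : Type u} [SmallCategory C] {J : GrothendieckTopology C} {D : Type u} [SmallCategory D]
  {K : GrothendieckTopology D} {O_C : Sheaf J CommRingCat.{u}} {O_D : Sheaf K CommRingCat.{u}}
  (f : ModSite.RMor O_C O_D) [SiteCmp.HasRpushD f]

/-- `Rf_*` preserves `≥ a` -/
theorem preservesGE_rpush : WayOut.PreservesGE (SiteCmp.RpushD f) := fun M a hM => by
  haveI : IsGrothendieckAbelian.{u} (ModSite.Mod O_D) := KFlat.isGrothendieck O_D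
  rw [isGE_iff]
  intro i hi
  let S := HDU.modData O_D
  refine (IsZero.iff_id_eq_zero _).2 (S.Φ.map_injective ?_)
  rw [Functor.map_zero]
  refine Sheaf.hom_ext ?_
  ext U γ
  change (S.Φ.map (𝟙 _)).hom.app U γ = 0
  rw [CategoryTheory.Functor.map_id]
  change γ = 0
  obtain ⟨T, hT, hT'⟩ := S.η_locally_surjective _ i U.unop γ
  refine S.eq_zero_of_cover _ i γ hT fun W g hg => ?_
  obtain ⟨x, hx⟩ := hT' W g hg
  obtain ⟨w, rfl⟩ := (bijective_theta f W i M).2 x
  have hw : w = 0 := TStructure.t.zero_of_isLE_of_isGE w 0 1 (by omega) inferInstance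
    (by
      haveI := TStructure.t.isGE_shift M a i (a - i) (by omega)
      exact TStructure.t.isGE_of_ge (M⟦i⟧) 1 (a - i) (by omega))
  rw [← hx, hw, theta_zero, map_zero]

variable [HasInjectiveResolutions (ModSite.Mod O_C)] (A : ObjectProperty (ModSite.Mod O_C))
  [WSerre.IsWeakSerre A] (A' : ObjectProperty (ModSite.Mod O_D)) [WSerre.IsWeakSerre A']
  (h3 : ∀ F : ModSite.Mod O_C, A F → ∀ p : ℕ, A' ((f.Rpush p).obj F))

include h3 in
lemma cohIn_rpush_single (F : ModSite.Mod O_C) (hF : A F) :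
    WSerre.cohIn A' ((SiteCmp.RpushD f).obj ((DerivedCategory.singleFunctor (ModSite.Mod O_C) 0).obj F)) := by
  intro i
  rcases lt_or_ge i 0 with hi | hi
  · obtain ⟨Z, hZ, hPZ⟩ := A'.exists_prop_of_containsZero
    exact A'.prop_of_iso (hZ.iso (isZero_homology_single_neg f F i hi)) hPZ
  · obtain ⟨p, rfl⟩ : ∃ p : ℕ, i = (p : ℤ) := ⟨i.toNat, by omega⟩
    exact A'.prop_of_iso (nonempty_homology_single f F p).some.symm (h3 F hF p)

include h3 in
lemma cohIn_rpush_bounded : ∀ (d : ℕ) (M : DerivedCategory (ModSite.Mod O_C)) (a : ℤ),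
    M.IsGE a → M.IsLE (a + d - 1) → WSerre.cohIn A M → WSerre.cohIn A' ((SiteCmp.RpushD f).obj M)
  | 0, M, a, hge, hle, _ => by
    have hz : IsZero M := TStructure.t.isZero M (a + ((0 : ℕ) : ℤ) - 1) a (by omega)
    exact (WayOut.stable_cohIn A').zero ((SiteCmp.RpushD f).map_isZero hz)
  | d + 1, M, a, hge, hle, hH => by
    let M' := (t.truncGE (a + 1)).obj M
    have hM' : M'.IsGE (a + 1) := HDU.isGE_truncGE M _
    have hf : ∀ i, a + 1 ≤ i →
        IsIso ((DerivedCategory.homologyFunctor (ModSite.Mod O_C) i).map ((t.truncGEπ (a + 1)).app M)) :=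
      fun i hi => HDU.isIso_H_truncGEπ M _ i hi
    obtain ⟨F, g, h, hT, ⟨e⟩⟩ := HDU.exists_fibre ((t.truncGEπ (a + 1)).app M) a hge hM' hf
    obtain ⟨c, hT'⟩ := exists_rpush_triangle f _ _ _ hT
    refine (WayOut.stable_cohIn A').ext _ hT' ?_ (cohIn_rpush_bounded d M' (a + 1) hM' ?_ fun i => ?_)
    · have h1 : WSerre.cohIn A' (((SiteCmp.RpushD f).obj F)⟦a⟧) :=
        (WayOut.stable_cohIn A').iso ((SiteCmp.RpushD f).mapIso e.symm ≪≫ (shiftIso f a).app F)
          (cohIn_rpush_single f A A' h3 _ (hH a))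
      exact (WayOut.stable_cohIn A').iso
        ((shiftFunctorCompIsoId (DerivedCategory (ModSite.Mod O_D)) a (-a) (by omega)).app _)
        ((WayOut.stable_cohIn A').shift (-a) h1)
    · rw [isLE_iff]
      intro i hi
      have := hf i (by omega)
      exact (isZero_of_isLE M (a + ((d + 1 : ℕ) : ℤ) - 1) i (by omega)).of_iso
        (asIso ((DerivedCategory.homologyFunctor (ModSite.Mod O_C) i).map ((t.truncGEπ (a + 1)).app M))).symm
    · rcases le_or_gt (a + 1) i with hi | hi
      · have := hf i hi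
        exact A.prop_of_iso (asIso ((DerivedCategory.homologyFunctor (ModSite.Mod O_C) i).map
          ((t.truncGEπ (a + 1)).app M))) (hH i)
      · obtain ⟨Z, hZ, hPZ⟩ := A.exists_prop_of_containsZero
        exact A.prop_of_iso (hZ.iso (isZero_of_isGE M' (a + 1) i hi)) hPZ

include h3 in
/-- `Rf_*` sends bounded below objects with cohomology in `A` to objects with cohomology in `A'` -/
theorem cohIn_rpush_boundedBelow (M : DerivedCategory (ModSite.Mod O_C)) (a : ℤ) (hge : M.IsGE a)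
    (hH : WSerre.cohIn A M) : WSerre.cohIn A' ((SiteCmp.RpushD f).obj M) := by
  intro q
  obtain ⟨T, hT, rfl, ha', ⟨b, hb⟩, hV, hH'⟩ := WayOut.exists_bounded_approx (P := A)
    (fun hM => by
      obtain ⟨Z, hZ, hPZ⟩ := A.exists_prop_of_containsZero
      exact A.prop_of_iso (hZ.iso hM) hPZ)
    (fun e hM => A.prop_of_iso e hM) M a hge q hH
  obtain ⟨c, hT'⟩ := exists_rpush_triangle f T.mor₁ T.mor₂ T.mor₃ hT
  haveI : IsIso ((DerivedCategory.homologyFunctor (ModSite.Mod O_D) q).map ((SiteCmp.RpushD f).map T.mor₁)) :=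
    WayOut.isIso_H_mor₁ _ hT' (q + 1) q (preservesGE_rpush f _ _ hV) (by omega)
  exact A'.prop_of_iso (asIso ((DerivedCategory.homologyFunctor (ModSite.Mod O_D) q).map
      ((SiteCmp.RpushD f).map T.mor₁)))
    (cohIn_rpush_bounded f A A' h3 (b + 1 - a).toNat T.obj₁ a ha'
      (by
        haveI : TStructure.t.IsLE T.obj₁ b := hb
        exact TStructure.t.isLE_of_le _ b _ (by omega)) hH' q)

lemma hasProduct_rpush_truncTower (X : DerivedCategory (ModSite.Mod O_C)) :
    HasProduct fun n => (SiteCmp.RpushD f).obj (CohCx.truncTower X n) := by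
  haveI : IsGrothendieckAbelian.{u} (ModSite.Mod O_D) := KFlat.isGrothendieck O_D
  have := HDU.hasProduct_derived (A := ModSite.Mod O_D) (T := ULift.{u} ℕ)
    (fun n => (SiteCmp.RpushD f).obj (CohCx.truncTower X n.down))
  exact hasLimit_of_iso (F := (Discrete.equivalence (Equiv.ulift.{u}.symm : ℕ ≃ ULift.{u} ℕ)).functor ⋙
      Discrete.functor fun n : ULift.{u} ℕ => (SiteCmp.RpushD f).obj (CohCx.truncTower X n.down))
    (Discrete.natIso fun _ => Iso.refl _)

variable (B : Set C) (B' : Set D)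
  (hB : ∀ U : C, ∃ (ι : Type u) (Y : ι → C) (g : ∀ i, Y i ⟶ U), Sieve.ofArrows Y g ∈ J U ∧ ∀ i, Y i ∈ B)
  (hA : ∀ V ∈ B, ∃ d : ℕ, ∀ T ∈ J V, ∃ (ι : Type u) (Y : ι → C) (g : ∀ i, Y i ⟶ V), (∀ i, T.arrows (g i)) ∧
    Sieve.ofArrows Y g ∈ J V ∧ ∀ (i : ι) (F : ModSite.Mod O_C), A F → ∀ k : ℕ, d < k →
      Subsingleton (ModSite.HU O_C F k (Y i)))

include h3 hB hA in
/-- `Rf_*` and truncations, with vanishing on the target -/
theorem cohIn_and_isIso
    (hB' : ∀ U : D, ∃ (ι : Type u) (Y : ι → D) (g : ∀ i, Y i ⟶ U), Sieve.ofArrows Y g ∈ K U ∧ ∀ i, Y i ∈ B')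
    (hA' : ∀ V ∈ B', ∃ d : ℕ, ∀ T ∈ K V, ∃ (ι : Type u) (Y : ι → D) (g : ∀ i, Y i ⟶ V), (∀ i, T.arrows (g i)) ∧
      Sieve.ofArrows Y g ∈ K V ∧ ∀ (i : ι) (F : ModSite.Mod O_D), A' F → ∀ k : ℕ, d < k →
        Subsingleton (ModSite.HU O_D F k (Y i)))
    (N : ℤ) (h4 : ∀ F : ModSite.Mod O_C, A F → ∀ p : ℕ, N < (p : ℤ) → IsZero ((f.Rpush p).obj F))
    (X : DerivedCategory (ModSite.Mod O_C)) (hX : WSerre.cohIn A X) :
    WSerre.cohIn A' ((SiteCmp.RpushD f).obj X) ∧ ∀ (n : ℕ) (j : ℤ), N - (n : ℤ) ≤ j →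
      IsIso ((DerivedCategory.homologyFunctor (ModSite.Mod O_D) j).map
        ((SiteCmp.RpushD f).map (CohCx.toTruncTower X n))) := by
  haveI : IsGrothendieckAbelian.{u} (ModSite.Mod O_D) := KFlat.isGrothendieck O_D
  haveI : IsGrothendieckAbelian.{u} (ModSite.Mod O_C) := KFlat.isGrothendieck O_C
  haveI := hasProduct_truncTower X
  haveI := hasProduct_rpush_truncTower f X
  have hR := isRlimVia_trunc A B hB hA X hX
  have hR' := isRlimVia_rpush f _ _ X _ hR
  have hcoh : ∀ n, WSerre.cohIn A (CohCx.truncTower X n) := fun n i => by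
    rcases le_or_gt (-(n : ℤ)) i with hi | hi
    · have := HDU.isIso_H_truncGEπ X _ i hi
      exact A.prop_of_iso (asIso ((DerivedCategory.homologyFunctor (ModSite.Mod O_C) i).map
        (CohCx.toTruncTower X n))) (hX i)
    · obtain ⟨Z, hZ, hPZ⟩ := A.exists_prop_of_containsZero
      have : (CohCx.truncTower X n).IsGE (-(n : ℤ)) := HDU.isGE_truncGE X _
      exact A.prop_of_iso (hZ.iso (isZero_of_isGE _ _ i hi)) hPZ
  have hK : ∀ n, WSerre.cohInPlus A' ((SiteCmp.RpushD f).obj (CohCx.truncTower X n)) := fun n =>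
    ⟨cohIn_rpush_boundedBelow f A A' h3 _ (-(n : ℤ)) (HDU.isGE_truncGE X _) (hcoh n),
      -(n : ℤ), preservesGE_rpush f _ _ (HDU.isGE_truncGE X _)⟩
  have hiso : ∀ (n : ℕ) (j : ℤ), N - (n : ℤ) ≤ j →
      IsIso ((DerivedCategory.homologyFunctor (ModSite.Mod O_D) j).map
        ((SiteCmp.RpushD f).map (CohCx.toTruncTower X n))) := by
    intro n j hj
    obtain ⟨n₀, hn₀⟩ := HDU.isIso_homology_of_eventually_constant (HDU.modData O_D) A' B' hB'
      (fun V hV => by
        obtain ⟨d, hd⟩ := hA' V hV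
        refine ⟨d, fun T hT => ?_⟩
        obtain ⟨ι, Y, g, h1, h2, h3'⟩ := hd T hT
        exact ⟨ι, Y, g, h1, h2, fun i F hF k hk => HDU.modVan O_D F k (by omega) (Y i) (h3' i F hF k hk)⟩)
      _ _ hK (fun i => ⟨(N - i).toNat, fun m hm => isIso_homology_step f A X hX N h4 m i (by omega)⟩)
      _ _ hR' j
    have := isIso_homology_transition f A X hX N h4 n j hj n₀
    have := hn₀ (n + n₀) (by omega)
    rw [← HDU.comp_transition hR n n₀, Functor.map_comp, Functor.map_comp]
    infer_instance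
  refine ⟨fun j => ?_, hiso⟩
  have := hiso (N - j).toNat j (by omega)
  exact A'.prop_of_iso (asIso ((DerivedCategory.homologyFunctor (ModSite.Mod O_D) j).map
    ((SiteCmp.RpushD f).map (CohCx.toTruncTower X (N - j).toNat)))).symm ((hK (N - j).toNat).1 j)

end Groth.Agent.RPushSite
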