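import Groth.Agent.RPushSite.Limits
import Groth.Agent.WayOut.Basic
import Mathlib.CategoryTheory.Abelian.RightDerived
import Mathlib.CategoryTheory.Abelian.Injective.Extend
import Mathlib.Algebra.Homology.Embedding.ExtendHomology
import Mathlib.Algebra.Homology.HomotopyCategory.KInjective

/-!
Cohomology of `Rf_*` of a module in degree `0`; amplitude.
-/

set_option autoImplicit false
set_option linter.style.haveILetI false
set_option linter.unusedSectionVars false
set_option backward.isDefEq.respectTransparency false
set_option backward.isDefEq.respectTransparency.types false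
set_option maxHeartbeats 1000000

universe v v' u u'

open CategoryTheory Category Limits Opposite

namespace Groth.Agent.RPushSite

section Extend

variable {A : Type*} [Category A] [Preadditive A] [HasZeroObject A] {B : Type*} [Category B]
  [Preadditive B] [HasZeroObject B] (G : A ⥤ B) [G.Additive] {ι ι' : Type*} {c : ComplexShape ι}
  {c' : ComplexShape ι'} (e : c.Embedding c') (K : HomologicalComplex A c)

/-- additive functors commute with extension of complexes by zero -/
theorem nonempty_mapExtendIso :
    Nonempty ((G.mapHomologicalComplex c').obj (K.extend e) ≅ ((G.mapHomologicalComplex c).obj K).extend e) := by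
  classical
  have hz : ∀ i', (¬ ∃ i, e.f i = i') → IsZero (G.obj ((K.extend e).X i')) ∧
      IsZero ((((G.mapHomologicalComplex c).obj K).extend e).X i') := fun i' h =>
    ⟨G.map_isZero (HomologicalComplex.isZero_extend_X K e i' fun i hi => h ⟨i, hi⟩),
      HomologicalComplex.isZero_extend_X _ e i' fun i hi => h ⟨i, hi⟩⟩
  let φ : ∀ i', G.obj ((K.extend e).X i') ≅ (((G.mapHomologicalComplex c).obj K).extend e).X i' := fun i' =>
    if h : ∃ i, e.f i = i' then
      G.mapIso (HomologicalComplex.extendXIso K e h.choose_spec) ≪≫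
        (HomologicalComplex.extendXIso ((G.mapHomologicalComplex c).obj K) e h.choose_spec).symm
    else (hz i' h).1.iso (hz i' h).2
  have hφ : ∀ (i : ι) (i' : ι') (h : e.f i = i'), (φ i').hom = G.map (HomologicalComplex.extendXIso K e h).hom ≫
      (HomologicalComplex.extendXIso ((G.mapHomologicalComplex c).obj K) e h).inv := fun i i' h => by
    have h' : ∃ i, e.f i = i' := ⟨i, h⟩
    obtain rfl : h'.choose = i := e.injective_f (h'.choose_spec.trans h.symm)
    simp only [φ, dif_pos h', Iso.trans_hom, Functor.mapIso_hom, Iso.symm_hom]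
  refine ⟨HomologicalComplex.Hom.isoOfComponents φ fun i' j' _ => ?_⟩
  by_cases hi : ∃ i, e.f i = i'
  · by_cases hj : ∃ j, e.f j = j'
    · obtain ⟨i, hi⟩ := hi
      obtain ⟨j, hj⟩ := hj
      rw [hφ i i' hi, hφ j j' hj]
      change (G.map (HomologicalComplex.extendXIso K e hi).hom ≫ _) ≫ _ = G.map ((K.extend e).d i' j') ≫ _
      rw [HomologicalComplex.extend_d_eq _ e hi hj, HomologicalComplex.extend_d_eq _ e hi hj]
      simp
    · exact (hz j' hj).2.eq_of_tgt _ _
  · exact (hz i' hi).1.eq_of_src _ _

end Extend

attribute [local instance] HasDerivedCategory.standard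

variable {C : Type u} [SmallCategory C] {J : GrothendieckTopology C} {D : Type u} [SmallCategory D]
  {K : GrothendieckTopology D} {O_C : Sheaf J CommRingCat.{u}} {O_D : Sheaf K CommRingCat.{u}}
  (f : ModSite.RMor O_C O_D) [HasInjectiveResolutions (ModSite.Mod O_C)] [SiteCmp.HasRpushD f]

/-- `Rf_* F[0]` is computed by an injective resolution -/
theorem exists_single_complex (F : ModSite.Mod O_C) :
    ∃ P : CochainComplex (ModSite.Mod O_D) ℤ,
      Nonempty ((SiteCmp.RpushD f).obj ((DerivedCategory.singleFunctor (ModSite.Mod O_C) 0).obj F) ≅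
        DerivedCategory.Q.obj P) ∧
      (∀ n : ℤ, n < 0 → IsZero (P.X n)) ∧
      ∀ p : ℕ, Nonempty (P.homology (p : ℤ) ≅ (f.Rpush p).obj F) := by
  let R := injectiveResolution F
  let P₀ := (f.push.mapHomologicalComplex (ComplexShape.up ℤ)).obj R.cochainComplex
  have : R.cochainComplex.IsKInjective := CochainComplex.isKInjective_of_injective _ 0
  have hI : KInj.kinjProp (ModSite.Mod O_C)
      ((HomotopyCategory.quotient _ (ComplexShape.up ℤ)).obj R.cochainComplex) := this
  have h1 := isIso_unit_app f hI
  have hq : IsIso ((DerivedCategory.Q : _ ⥤ DerivedCategory (ModSite.Mod O_C)).map R.ι') :=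
    (DerivedCategory.isIso_Q_map_iff_quasiIso _ _).2 inferInstance
  let e₁ : (DerivedCategory.singleFunctor (ModSite.Mod O_C) 0).obj F ≅
      DerivedCategory.Qh.obj ((HomotopyCategory.quotient _ _).obj R.cochainComplex) :=
    @asIso _ _ _ _ _ hq ≪≫ ((DerivedCategory.quotientCompQhIso (ModSite.Mod O_C)).app _).symm
  refine ⟨P₀, ⟨(SiteCmp.RpushD f).mapIso e₁ ≪≫ (@asIso _ _ _ _ _ h1).symm ≪≫
      (DerivedCategory.quotientCompQhIso (ModSite.Mod O_D)).app P₀⟩, fun n hn =>
      f.push.map_isZero (CochainComplex.isZero_of_isStrictlyGE R.cochainComplex 0 n hn), fun p => ?_⟩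
  obtain ⟨e⟩ := nonempty_mapExtendIso f.push ComplexShape.embeddingUpNat R.cocomplex
  exact ⟨HomologicalComplex.homologyMapIso e _ ≪≫
    HomologicalComplex.extendHomologyIso _ ComplexShape.embeddingUpNat (j := p) rfl ≪≫
      (R.isoRightDerivedObj f.push p).symm⟩

/-- cohomology of `Rf_* F[0]` in nonnegative degrees -/
theorem nonempty_homology_single (F : ModSite.Mod O_C) (p : ℕ) :
    Nonempty ((DerivedCategory.homologyFunctor (ModSite.Mod O_D) (p : ℤ)).obj
      ((SiteCmp.RpushD f).obj ((DerivedCategory.singleFunctor (ModSite.Mod O_C) 0).obj F)) ≅ (f.Rpush p).obj F) := by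
  obtain ⟨P, ⟨e⟩, -, h⟩ := exists_single_complex f F
  exact ⟨(DerivedCategory.homologyFunctor _ _).mapIso e ≪≫
    (DerivedCategory.homologyFunctorFactors _ _).app P ≪≫ (h p).some⟩

/-- and in negative degrees -/
theorem isZero_homology_single_neg (F : ModSite.Mod O_C) (n : ℤ) (hn : n < 0) :
    IsZero ((DerivedCategory.homologyFunctor (ModSite.Mod O_D) n).obj
      ((SiteCmp.RpushD f).obj ((DerivedCategory.singleFunctor (ModSite.Mod O_C) 0).obj F))) := by
  obtain ⟨P, ⟨e⟩, hP, -⟩ := exists_single_complex f F
  refine IsZero.of_iso ?_ ((DerivedCategory.homologyFunctor _ _).mapIso e ≪≫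
    (DerivedCategory.homologyFunctorFactors _ _).app P)
  exact ShortComplex.isZero_homology_of_isZero_X₂ _ (hP n hn)

end Groth.Agent.RPushSite
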