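import Groth.Agent.RPushSite.Acyclic
import Groth.Agent.ModSiteFree.Basic
import Groth.Agent.KInj.Adjunction
import Groth.Agent.KInj.Existence
import Mathlib.Algebra.Homology.DerivedCategory.Fractions
import Mathlib.CategoryTheory.Localization.CalculusOfFractions

/-!
Hypercohomology of derived direct images on ringed sites:
`H^k(V, Rf_* M) ≅ H^k(fn V, M)`, naturally in `M`.
-/

set_option autoImplicit false
set_option linter.style.haveILetI false
set_option linter.unusedSectionVars false
set_option backward.isDefEq.respectTransparency false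
set_option backward.isDefEq.respectTransparency.types false
set_option maxHeartbeats 1000000

universe u

open CategoryTheory Category Limits Opposite

namespace Groth.Agent.RPushSite

attribute [local instance] HasDerivedCategory.standard

variable {C : Type u} [SmallCategory C] {J : GrothendieckTopology C} {D : Type u} [SmallCategory D]
  {K : GrothendieckTopology D} {O_C : Sheaf J CommRingCat.{u}} {O_D : Sheaf K CommRingCat.{u}}
  (f : ModSite.RMor O_C O_D)

local notation "qC" => HomotopyCategory.quotient (ModSite.Mod O_C) (ComplexShape.up ℤ)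
local notation "qD" => HomotopyCategory.quotient (ModSite.Mod O_D) (ComplexShape.up ℤ)

/-- `f_*` on homotopy categories -/
noncomputable abbrev pushK :
    HomotopyCategory (ModSite.Mod O_C) (ComplexShape.up ℤ) ⥤ HomotopyCategory (ModSite.Mod O_D) (ComplexShape.up ℤ) :=
  f.push.mapHomotopyCategory (ComplexShape.up ℤ)

/-- `f^*` on homotopy categories -/
noncomputable abbrev pullK :
    HomotopyCategory (ModSite.Mod O_D) (ComplexShape.up ℤ) ⥤ HomotopyCategory (ModSite.Mod O_C) (ComplexShape.up ℤ) :=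
  f.pull.mapHomotopyCategory (ComplexShape.up ℤ)

/-- the adjunction on homotopy categories -/
noncomputable abbrev adjK : pullK f ⊣ pushK f :=
  KInj.mapHomotopyCategoryAdj f.adj (ComplexShape.up ℤ)

/-- complexes against which `f_*` of K-injective complexes behave as K-injective ones -/
def Good (W : HomotopyCategory (ModSite.Mod O_D) (ComplexShape.up ℤ)) : Prop :=
  ∀ I : HomotopyCategory (ModSite.Mod O_C) (ComplexShape.up ℤ), KInj.kinjProp (ModSite.Mod O_C) I →
    Function.Bijective (DerivedCategory.Qh.map : (W ⟶ (pushK f).obj I) → _)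

lemma isIso_Qh_map {A : Type (u + 1)} [Category.{u} A] [Abelian A] {P Q : CochainComplex A ℤ}
    (s : P ⟶ Q) [QuasiIso s] :
    IsIso (DerivedCategory.Qh.map ((HomotopyCategory.quotient A (ComplexShape.up ℤ)).map s)) :=
  Localization.inverts DerivedCategory.Qh (HomotopyCategory.quasiIso A (ComplexShape.up ℤ)) _
    ((HomotopyCategory.quotient_map_mem_quasiIso_iff s).2 (by
      rw [HomologicalComplex.mem_quasiIso_iff]; infer_instance))

/-- precomposition with a resolution -/
theorem bijective_precomp (X : ModSite.Mod O_D) (hX : FAcyc f X)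
    (P : CochainComplex (ModSite.Mod O_D) ℤ) (s : P ⟶ (CochainComplex.singleFunctor _ 0).obj X) [QuasiIso s]
    (hP : ∀ n, 0 < n → IsZero (P.X n)) (hP' : ∀ n, FAcyc f (P.X n))
    (I : HomotopyCategory (ModSite.Mod O_C) (ComplexShape.up ℤ)) (hI : KInj.kinjProp (ModSite.Mod O_C) I) :
    Function.Bijective (fun φ : (qD).obj ((CochainComplex.singleFunctor _ 0).obj X) ⟶ (pushK f).obj I =>
      (qD).map s ≫ φ) := by
  have hq : QuasiIso ((f.pull.mapHomologicalComplex (ComplexShape.up ℤ)).map s) :=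
    quasiIso_pull f s 0 hP
      (fun n hn => HomologicalComplex.isZero_single_obj_X (ComplexShape.up ℤ) 0 X n (by omega))
      hP' (fun n => by
        by_cases h : n = 0
        · subst h
          exact fAcyc_of_iso f (HomologicalComplex.singleObjXSelf (ComplexShape.up ℤ) 0 X).symm hX
        · exact fAcyc_of_isZero f (HomologicalComplex.isZero_single_obj_X (ComplexShape.up ℤ) 0 X n h))
  have hiso : IsIso (DerivedCategory.Qh.map ((pullK f).map ((qD).map s))) := isIso_Qh_map
    ((f.pull.mapHomologicalComplex (ComplexShape.up ℤ)).map s)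
  have : CochainComplex.IsKInjective I.as := hI
  have hb : ∀ Z, Function.Bijective (DerivedCategory.Qh.map : (Z ⟶ I) → _) :=
    fun Z => CochainComplex.IsKInjective.Qh_map_bijective Z I.as
  let e := fun Z => (adjK f).homEquiv Z I
  have key : Function.Bijective (fun φ : (pullK f).obj ((qD).obj ((CochainComplex.singleFunctor _ 0).obj X)) ⟶ I =>
      (pullK f).map ((qD).map s) ≫ φ) := by
    refine ⟨fun φ ψ h => (hb _).1 ?_, fun χ => ?_⟩
    · have h' := congrArg (fun x => DerivedCategory.Qh.map x) h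
      simp only [Functor.map_comp] at h'
      exact (cancel_epi _).1 h'
    · obtain ⟨φ, hφ⟩ := (hb _).2 (inv (DerivedCategory.Qh.map ((pullK f).map ((qD).map s))) ≫
        DerivedCategory.Qh.map χ)
      refine ⟨φ, (hb _).1 ?_⟩
      simp [hφ]
  refine ⟨fun φ ψ h => (e _).symm.injective (key.1 ?_), fun χ => ?_⟩
  · have h' := congrArg (e _).symm h
    simpa only [e, Adjunction.homEquiv_naturality_left_symm] using h'
  · obtain ⟨φ, hφ⟩ := key.2 ((e _).symm χ)
    refine ⟨e _ φ, (e _).symm.injective ?_⟩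
    simpa only [e, Adjunction.homEquiv_naturality_left_symm, Equiv.symm_apply_apply] using hφ

/-- the resolution of the source of a quasi-isomorphism to a module in degree `0` -/
lemma exists_resolution_qis (X : ModSite.Mod O_D)
    {X' : HomotopyCategory (ModSite.Mod O_D) (ComplexShape.up ℤ)}
    (s : X' ⟶ (qD).obj ((CochainComplex.singleFunctor _ 0).obj X))
    (hs : HomotopyCategory.quasiIso (ModSite.Mod O_D) (ComplexShape.up ℤ) s) :
    ∃ (P : CochainComplex (ModSite.Mod O_D) ℤ) (s' : P ⟶ (CochainComplex.singleFunctor _ 0).obj X)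
      (a : (qD).obj P ⟶ X'),
      QuasiIso s' ∧ (∀ n, 0 < n → IsZero (P.X n)) ∧ (∀ n, FAcyc f (P.X n)) ∧
      IsIso (DerivedCategory.Qh.map a) ∧ a ≫ s = (qD).map s' := by
  obtain ⟨s₀, rfl⟩ := (qD).map_surjective (X := X'.as) s
  have hs₀ : QuasiIso s₀ := by
    rw [← HomologicalComplex.mem_quasiIso_iff]
    exact (HomotopyCategory.quotient_map_mem_quasiIso_iff s₀).1 hs
  have hG : ∀ n : ℤ, 0 < n → X'.as.ExactAt n := fun n hn => by
    haveI : QuasiIsoAt s₀ n := hs₀.quasiIsoAt n
    rw [exactAt_iff_of_quasiIsoAt s₀ n]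
    exact HomologicalComplex.exactAt_single_obj _ _ _ _ (by omega)
  let q := resπ (KFlat.cover O_D) (KFlat.coverπ O_D) X'.as
  have : QuasiIso q := quasiIso_resπ _ _ _ hG
  exact ⟨res (KFlat.cover O_D) (KFlat.coverπ O_D) X'.as, q ≫ s₀, (qD).map q,
    inferInstance, isZero_res_X _ _ _, fAcyc_res f _, isIso_Qh_map q, ((qD).map_comp _ _).symm⟩

/-- acyclic modules in degree `0` are good -/
theorem good_single (X : ModSite.Mod O_D) (hX : FAcyc f X) :
    Good f ((qD).obj ((CochainComplex.singleFunctor _ 0).obj X)) := by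
  intro I hI
  refine ⟨fun φ ψ h => ?_, fun x => ?_⟩
  · obtain ⟨X', s, hs, hfac⟩ := (MorphismProperty.map_eq_iff_precomp DerivedCategory.Qh
      (HomotopyCategory.quasiIso (ModSite.Mod O_D) (ComplexShape.up ℤ)) φ ψ).1 h
    obtain ⟨P, s', a, h1, h2, h3, h4, h5⟩ := exists_resolution_qis f X s hs
    refine (bijective_precomp f X hX P s' h2 h3 I hI).1 ?_
    change (qD).map s' ≫ φ = (qD).map s' ≫ ψ
    rw [← h5, assoc, assoc, hfac]
  · obtain ⟨φ, hφ⟩ := Localization.exists_rightFraction DerivedCategory.Qh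
      (HomotopyCategory.quasiIso (ModSite.Mod O_D) (ComplexShape.up ℤ)) x
    obtain ⟨P, s', a, h1, h2, h3, h4, h5⟩ := exists_resolution_qis f X φ.s φ.hs
    obtain ⟨ψ, hψ⟩ := (bijective_precomp f X hX P s' h2 h3 I hI).2 (a ≫ φ.f)
    change (qD).map s' ≫ ψ = a ≫ φ.f at hψ
    refine ⟨ψ, ?_⟩
    have := isIso_Qh_map s'
    rw [← cancel_epi (DerivedCategory.Qh.map ((qD).map s')), ← Functor.map_comp, hψ, ← h5, hφ,
      Functor.map_comp, Functor.map_comp, assoc]
    exact congrArg (_ ≫ ·) (φ.map_s_comp_map DerivedCategory.Qh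
      (Localization.inverts DerivedCategory.Qh _)).symm

variable [SiteCmp.HasRpushD f]

/-- the unit of `Rf_*` -/
noncomputable abbrev unit : SiteCmp.pushKh f ⟶ DerivedCategory.Qh ⋙ SiteCmp.RpushD f :=
  (SiteCmp.pushKh f).totalRightDerivedUnit DerivedCategory.Qh
    (HomotopyCategory.quasiIso (ModSite.Mod O_C) (ComplexShape.up ℤ))

lemma exists_kInj (M : CochainComplex (ModSite.Mod O_C) ℤ) :
    ∃ (I : CochainComplex (ModSite.Mod O_C) ℤ) (g : M ⟶ I), I.IsKInjective ∧ QuasiIso g := by
  haveI : IsGrothendieckAbelian.{u} (ModSite.Mod O_C) := KFlat.isGrothendieck O_C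
  obtain ⟨I, g, h1, h2, -⟩ := KInj.exists_kInjective M
  exact ⟨I, g, h1, h2⟩

lemma isIso_unit_app {I : HomotopyCategory (ModSite.Mod O_C) (ComplexShape.up ℤ)}
    (hI : KInj.kinjProp (ModSite.Mod O_C) I) : IsIso ((unit f).app I) :=
  (KInj.isDeforming_Qh exists_kInj (SiteCmp.pushKh f)).isIso_app
    (HomotopyCategory.quasiIso (ModSite.Mod O_C) (ComplexShape.up ℤ)) (SiteCmp.RpushD f) (unit f) hI

/-- the map `W ⟶ Rf_* f^* W` -/
noncomputable def uMap (W : HomotopyCategory (ModSite.Mod O_D) (ComplexShape.up ℤ)) :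
    DerivedCategory.Qh.obj W ⟶ (SiteCmp.RpushD f).obj (DerivedCategory.Qh.obj ((pullK f).obj W)) :=
  DerivedCategory.Qh.map ((adjK f).unit.app W) ≫ (unit f).app ((pullK f).obj W)

/-- the derived adjunction on good objects -/
theorem bijective_uMap {W : HomotopyCategory (ModSite.Mod O_D) (ComplexShape.up ℤ)} (hW : Good f W)
    (N : DerivedCategory (ModSite.Mod O_C)) :
    Function.Bijective (fun g : DerivedCategory.Qh.obj ((pullK f).obj W) ⟶ N =>
      uMap f W ≫ (SiteCmp.RpushD f).map g) := by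
  obtain ⟨I, hI, ⟨e⟩⟩ := (KInj.isDeforming_Qh exists_kInj (SiteCmp.pushKh f)).res N
  have : CochainComplex.IsKInjective I.as := hI
  have := isIso_unit_app f hI
  have hb : Function.Bijective (DerivedCategory.Qh.map : ((pullK f).obj W ⟶ I) → _) :=
    CochainComplex.IsKInjective.Qh_map_bijective _ I.as
  have key : ∀ g' : (pullK f).obj W ⟶ I,
      uMap f W ≫ (SiteCmp.RpushD f).map (DerivedCategory.Qh.map g') =
        DerivedCategory.Qh.map ((adjK f).homEquiv W I g') ≫ (unit f).app I := fun g' => by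
    rw [uMap, Adjunction.homEquiv_unit, Functor.map_comp, assoc, assoc]
    exact congrArg (_ ≫ ·) ((unit f).naturality g').symm
  have hI' : Function.Bijective (fun g : DerivedCategory.Qh.obj ((pullK f).obj W) ⟶ DerivedCategory.Qh.obj I =>
      uMap f W ≫ (SiteCmp.RpushD f).map g) := by
    refine ⟨fun g g' h => ?_, fun y => ?_⟩
    · obtain ⟨g, rfl⟩ := hb.2 g
      obtain ⟨g', rfl⟩ := hb.2 g'
      dsimp only at h
      rw [key, key, cancel_mono] at h
      rw [((adjK f).homEquiv W I).injective ((hW I hI).1 h)]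
    · obtain ⟨y', hy'⟩ := (hW I hI).2 (y ≫ inv ((unit f).app I))
      refine ⟨DerivedCategory.Qh.map (((adjK f).homEquiv W I).symm y'), ?_⟩
      dsimp only
      rw [key, Equiv.apply_symm_apply, hy', assoc, IsIso.inv_hom_id, comp_id]
  refine ⟨fun g g' h => ?_, fun y => ?_⟩
  · have h' := congrArg (· ≫ (SiteCmp.RpushD f).map e.hom) h
    simp only [assoc, ← Functor.map_comp] at h'
    exact (cancel_mono e.hom).1 (hI'.1 h')
  · obtain ⟨g, hg⟩ := hI'.2 (y ≫ (SiteCmp.RpushD f).map e.hom)
    refine ⟨g ≫ e.inv, ?_⟩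
    dsimp only at hg ⊢
    rw [Functor.map_comp, ← assoc, hg, assoc, ← Functor.map_comp, e.hom_inv_id,
      CategoryTheory.Functor.map_id, comp_id]

/-- `Rf_*` commutes with shifts -/
theorem nonempty_shiftIso (k : ℤ) :
    Nonempty (shiftFunctor (DerivedCategory (ModSite.Mod O_C)) k ⋙ SiteCmp.RpushD f ≅
      SiteCmp.RpushD f ⋙ shiftFunctor (DerivedCategory (ModSite.Mod O_D)) k) := by
  let W := HomotopyCategory.quasiIso (ModSite.Mod O_C) (ComplexShape.up ℤ)
  let sK := shiftFunctor (HomotopyCategory (ModSite.Mod O_C) (ComplexShape.up ℤ)) k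
  let R₁ := shiftFunctor (DerivedCategory (ModSite.Mod O_C)) k ⋙ SiteCmp.RpushD f
  let R₂ := SiteCmp.RpushD f ⋙ shiftFunctor (DerivedCategory (ModSite.Mod O_D)) k
  let α₁ : sK ⋙ SiteCmp.pushKh f ⟶ DerivedCategory.Qh ⋙ R₁ :=
    Functor.whiskerLeft sK (unit f) ≫ (Functor.associator _ _ _).inv ≫
      Functor.whiskerRight (DerivedCategory.Qh.commShiftIso k).hom (SiteCmp.RpushD f) ≫
      (Functor.associator _ _ _).hom
  let α₂ : sK ⋙ SiteCmp.pushKh f ⟶ DerivedCategory.Qh ⋙ R₂ :=
    ((SiteCmp.pushKh f).commShiftIso k).hom ≫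
      Functor.whiskerRight (unit f) (shiftFunctor (DerivedCategory (ModSite.Mod O_D)) k) ≫
      (Functor.associator _ _ _).hom
  have hdef := KInj.isDeforming_Qh (exists_kInj (O_C := O_C)) (sK ⋙ SiteCmp.pushKh f)
  have hshift : ∀ I, KInj.kinjProp (ModSite.Mod O_C) I → KInj.kinjProp (ModSite.Mod O_C) (sK.obj I) :=
    fun I hI => by
      have : CochainComplex.IsKInjective I.as := hI
      exact (CochainComplex.isKInjective_iff_rightOrthogonal (sK.obj I).as).2
        ((HomotopyCategory.subcategoryAcyclic (ModSite.Mod O_C)).rightOrthogonal.le_shift k I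
          ((CochainComplex.isKInjective_iff_rightOrthogonal I.as).1 hI))
  have : R₁.IsRightDerivedFunctor α₁ W := hdef.isRightDerivedFunctor W R₁ α₁ fun I hI => by
    have := isIso_unit_app f (hshift I hI)
    simp only [α₁, NatTrans.comp_app, Functor.associator_hom_app, Functor.associator_inv_app,
      Functor.whiskerLeft_app, Functor.whiskerRight_app]
    infer_instance
  have : R₂.IsRightDerivedFunctor α₂ W := hdef.isRightDerivedFunctor W R₂ α₂ fun I hI => by
    have := isIso_unit_app f hI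
    simp only [α₂, NatTrans.comp_app, Functor.associator_hom_app, Functor.whiskerRight_app]
    infer_instance
  exact ⟨Functor.rightDerivedUnique R₁ R₂ α₁ α₂ W⟩

/-- the chosen commutation with shifts -/
noncomputable def shiftIso (k : ℤ) :
    shiftFunctor (DerivedCategory (ModSite.Mod O_C)) k ⋙ SiteCmp.RpushD f ≅
      SiteCmp.RpushD f ⋙ shiftFunctor (DerivedCategory (ModSite.Mod O_D)) k :=
  (nonempty_shiftIso f k).some

/-- inverse image of a free module -/
noncomputable def pullFreeMod (V : D) : f.pull.obj (HDU.freeMod O_D V) ≅ HDU.freeMod O_C (f.fn.obj V) :=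
  f.pull.mapIso (ModSiteFree.freeOnIso O_D V).symm ≪≫ ModSiteFree.pullFreeOnIso f V ≪≫
    ModSiteFree.freeOnIso O_C (f.fn.obj V)

/-- inverse image of a free module, in degree `0` -/
noncomputable def pullSingle (V : D) :
    DerivedCategory.Qh.obj ((pullK f).obj ((qD).obj ((CochainComplex.singleFunctor _ 0).obj (HDU.freeMod O_D V)))) ≅
      (DerivedCategory.singleFunctor (ModSite.Mod O_C) 0).obj (HDU.freeMod O_C (f.fn.obj V)) :=
  DerivedCategory.Qh.mapIso ((qC).mapIso
    ((HomologicalComplex.singleMapHomologicalComplex f.pull (ComplexShape.up ℤ) 0).app _ ≪≫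
      (CochainComplex.singleFunctor (ModSite.Mod O_C) 0).mapIso (pullFreeMod f V)))

/-- `H^k(fn V, M) → H^k(V, Rf_* M)` -/
noncomputable def theta (V : D) (k : ℤ) (M : DerivedCategory (ModSite.Mod O_C))
    (g : (HDU.modData O_C).HG M k (f.fn.obj V)) : (HDU.modData O_D).HG ((SiteCmp.RpushD f).obj M) k V :=
  uMap f ((qD).obj ((CochainComplex.singleFunctor _ 0).obj (HDU.freeMod O_D V))) ≫
    (SiteCmp.RpushD f).map ((pullSingle f V).hom ≫ g) ≫ (shiftIso f k).hom.app M

/-- `H^k(fn V, M) ≅ H^k(V, Rf_* M)` -/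
theorem bijective_theta (V : D) (k : ℤ) (M : DerivedCategory (ModSite.Mod O_C)) :
    Function.Bijective (theta f V k M) := by
  have hb := bijective_uMap f (good_single f _ (fAcyc_freeMod f V)) (M⟦k⟧)
  refine ⟨fun g g' h => ?_, fun y => ?_⟩
  · rw [theta, theta, ← assoc, ← assoc, cancel_mono] at h
    exact (cancel_epi (pullSingle f V).hom).1 (hb.1 h)
  · obtain ⟨g, hg⟩ := hb.2 (y ≫ (shiftIso f k).inv.app M)
    refine ⟨(pullSingle f V).inv ≫ g, ?_⟩
    dsimp only at hg
    rw [theta, Iso.hom_inv_id_assoc, ← assoc, hg, assoc]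
    exact (congrArg (y ≫ ·) ((shiftIso f k).inv_hom_id_app M)).trans (comp_id _)

/-- naturality -/
theorem theta_comp (V : D) (k : ℤ) {M M' : DerivedCategory (ModSite.Mod O_C)} (a : M ⟶ M')
    (g : (HDU.modData O_C).HG M k (f.fn.obj V)) :
    theta f V k M' (g ≫ a⟦k⟧') = theta f V k M g ≫ ((SiteCmp.RpushD f).map a)⟦k⟧' := by
  rw [theta, theta, ← assoc (pullSingle f V).hom, Functor.map_comp, assoc, assoc, assoc]
  exact congrArg (_ ≫ ·) (congrArg (_ ≫ ·) ((shiftIso f k).hom.naturality a))

theorem theta_zero (V : D) (k : ℤ) (M : DerivedCategory (ModSite.Mod O_C)) [(SiteCmp.RpushD f).PreservesZeroMorphisms] :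
    theta f V k M 0 = 0 := by
  simp [theta]

end Groth.Agent.RPushSite
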