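import Groth.Agent.RPushSite.Hom
import Groth.Agent.HDU.Milnor
import Mathlib.CategoryTheory.Triangulated.Orthogonal

/-!
`Rf_*` on ringed sites preserves products, distinguished triangles and derived limits.
-/

set_option autoImplicit false
set_option linter.style.haveILetI false
set_option linter.unusedSectionVars false
set_option backward.isDefEq.respectTransparency false
set_option backward.isDefEq.respectTransparency.types false
set_option maxHeartbeats 1000000

universe w v u u'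

open CategoryTheory Category Limits Opposite Pretriangulated DerivedCategory
open scoped ZeroObject

namespace Groth.Agent.HDU.SecData

variable {A : Type u'} [Category.{v} A] [Abelian A] {C : Type u} [SmallCategory C]
  {J : GrothendieckTopology C} (D : HDU.SecData A J) [HasDerivedCategory.{w} A] [IsGrothendieckAbelian.{v} A]

/-- isomorphisms of cohomology sheaves are detected locally on hypercohomology -/
theorem isIso_homology_of_locally_bijective {M M' : DerivedCategory A} (φ : M ⟶ M') (j : ℤ)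
    (hinj : ∀ (V : C) (x : D.HG M j V), x ≫ φ⟦j⟧' = 0 →
      ∃ S ∈ J V, ∀ (W : C) (g : W ⟶ V), S g → D.η M j W (D.res M j g x) = 0)
    (hsurj : ∀ (V : C) (y : D.HG M' j V),
      ∃ S ∈ J V, ∀ (W : C) (g : W ⟶ V), S g →
        ∃ γ : (D.HS M j).obj.obj (op W),
          (D.Φ.map ((DerivedCategory.homologyFunctor A j).map φ)).hom.app (op W) γ =
            D.η M' j W (D.res M' j g y)) :
    IsIso ((DerivedCategory.homologyFunctor A j).map φ) := by
  let ψ := D.Φ.map ((DerivedCategory.homologyFunctor A j).map φ)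
  have : Mono ψ := by
    refine (sheafToPresheaf J AddCommGrpCat.{u}).mono_of_mono_map ?_
    refine @NatTrans.mono_of_mono_app _ _ _ _ _ _ _ fun U => ?_
    refine (AddCommGrpCat.mono_iff_injective _).2 ((injective_iff_map_eq_zero _).mpr fun γ hγ => ?_)
    obtain ⟨S, hS, hS'⟩ := D.η_locally_surjective M j U.unop γ
    refine D.eq_zero_of_cover M j γ hS fun W g hg => ?_
    obtain ⟨x, hx⟩ := hS' W g hg
    have h0 : D.η M' j W (x ≫ φ⟦j⟧') = 0 := by
      refine (D.η_comp φ j W x).trans ((congrArg (ψ.hom.app (op W)) hx).trans ?_)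
      exact ((NatTrans.naturality_apply ψ.hom g.op γ)).trans
        ((congrArg ((D.HS M' j).obj.map g.op).hom hγ).trans (map_zero _))
    rw [← hx]
    obtain ⟨T, hT, hT'⟩ := D.η_locally_injective M' j W _ h0
    refine D.eq_zero_of_cover M j _ hT fun W' g' hg' => ?_
    obtain ⟨R, hR, hR'⟩ := hinj W' (D.res M j g' x) (by
      refine Eq.trans ?_ (hT' W' g' hg')
      exact Category.assoc _ _ _)
    refine D.eq_zero_of_cover M j _ hR fun W'' g'' hg'' => ?_
    rw [← D.η_res, ← D.η_res]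
    exact hR' W'' g'' hg''
  have : Sheaf.IsLocallySurjective ψ := ⟨fun {U} s => by
    obtain ⟨S, hS, hS'⟩ := D.η_locally_surjective M' j U s
    refine J.transitive hS _ fun W g hg => ?_
    obtain ⟨y, hy⟩ := hS' W g hg
    obtain ⟨T, hT, hT'⟩ := hsurj W y
    refine J.superset_covering (fun W' g' hg' => ?_) hT
    obtain ⟨γ, hγ⟩ := hT' W' g' hg'
    refine ⟨γ, hγ.trans ?_⟩
    rw [D.η_res, hy]
    exact (ConcreteCategory.congr_hom ((D.HS M' j).obj.map_comp g.op g'.op) s).symm⟩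
  have : Epi ψ := (Sheaf.isLocallySurjective_iff_epi' AddCommGrpCat.{u} ψ).1 this
  have := D.Φ.mono_of_mono_map (show Mono (D.Φ.map ((DerivedCategory.homologyFunctor A j).map φ)) from ‹Mono ψ›)
  have := D.Φ.epi_of_epi_map (show Epi (D.Φ.map ((DerivedCategory.homologyFunctor A j).map φ)) from ‹Epi ψ›)
  exact isIso_of_mono_of_epi _

/-- isomorphisms are detected on hypercohomology -/
theorem isIso_of_bijective_HG {M M' : DerivedCategory A} (φ : M ⟶ M')
    (h : ∀ (V : C) (j : ℤ), Function.Bijective (fun x : D.HG M j V => x ≫ φ⟦j⟧')) : IsIso φ := by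
  rw [DerivedCategory.isIso_iff]
  refine fun j => D.isIso_homology_of_locally_bijective φ j (fun V x hx => ?_) fun V y => ?_
  · refine ⟨⊤, J.top_mem V, fun W g _ => ?_⟩
    rw [show x = 0 from (h V j).1 (hx.trans zero_comp.symm), map_zero, map_zero]
  · refine ⟨⊤, J.top_mem V, fun W g _ => ?_⟩
    obtain ⟨x, hx⟩ := (h W j).2 (D.res M' j g y)
    exact ⟨D.η M j W x, (D.η_comp φ j W x).symm.trans (congrArg (D.η M' j W) hx)⟩

end Groth.Agent.HDU.SecData

namespace Groth.Agent.RPushSite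

attribute [local instance] HasDerivedCategory.standard

variable {C : Type u} [SmallCategory C] {J : GrothendieckTopology C} {D : Type u} [SmallCategory D]
  {K : GrothendieckTopology D} {O_C : Sheaf J CommRingCat.{u}} {O_D : Sheaf K CommRingCat.{u}}
  (f : ModSite.RMor O_C O_D) [SiteCmp.HasRpushD f]

/-- `Rf_*` commutes with the products which exist -/
theorem isIso_piComparison {T : Type w} (E : T → DerivedCategory (ModSite.Mod O_C)) [HasProduct E]
    [HasProduct fun t => (SiteCmp.RpushD f).obj (E t)] : IsIso (piComparison (SiteCmp.RpushD f) E) := by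
  haveI : IsGrothendieckAbelian.{u} (ModSite.Mod O_D) := KFlat.isGrothendieck O_D
  refine (HDU.modData O_D).isIso_of_bijective_HG _ fun V j => ⟨fun x x' h => ?_, fun y => ?_⟩
  · obtain ⟨g, rfl⟩ := (bijective_theta f V j _).2 x
    obtain ⟨g', rfl⟩ := (bijective_theta f V j _).2 x'
    refine congrArg (theta f V j _) ?_
    refine (isLimitOfHasProductOfPreservesLimit (shiftFunctor (DerivedCategory (ModSite.Mod O_C)) j) E).hom_ext
      fun ⟨t⟩ => ?_
    change g ≫ (Pi.π E t)⟦j⟧' = g' ≫ (Pi.π E t)⟦j⟧'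
    refine (bijective_theta f V j _).1 ?_
    rw [theta_comp, theta_comp, ← piComparison_comp_π (SiteCmp.RpushD f) E t, Functor.map_comp,
      ← assoc, ← assoc]
    exact congrArg (· ≫ _) h
  · choose g hg using fun t => (bijective_theta f V j (E t)).2
      (y ≫ (Pi.π (fun t => (SiteCmp.RpushD f).obj (E t)) t)⟦j⟧')
    let hl := isLimitOfHasProductOfPreservesLimit (shiftFunctor (DerivedCategory (ModSite.Mod O_C)) j) E
    refine ⟨theta f V j _ (hl.lift (Fan.mk _ g)), ?_⟩
    refine (isLimitOfHasProductOfPreservesLimit (shiftFunctor (DerivedCategory (ModSite.Mod O_D)) j)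
      (fun t => (SiteCmp.RpushD f).obj (E t))).hom_ext fun ⟨t⟩ => ?_
    change (_ ≫ (piComparison (SiteCmp.RpushD f) E)⟦j⟧') ≫ (Pi.π _ t)⟦j⟧' = y ≫ (Pi.π _ t)⟦j⟧'
    rw [assoc, ← Functor.map_comp, piComparison_comp_π, ← theta_comp, ← hg t]
    exact congrArg (theta f V j _) (hl.fac _ ⟨t⟩)

instance preservesZeroMorphisms_RpushD : (SiteCmp.RpushD f).PreservesZeroMorphisms := by
  haveI : IsGrothendieckAbelian.{u} (ModSite.Mod O_D) := KFlat.isGrothendieck O_D
  have hz : IsZero ((SiteCmp.RpushD f).obj 0) := by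
    have : IsIso (0 : (SiteCmp.RpushD f).obj 0 ⟶ 0) := by
      refine (HDU.modData O_D).isIso_of_bijective_HG _ fun V j => ?_
      have h1 : Subsingleton ((HDU.modData O_C).HG (0 : DerivedCategory (ModSite.Mod O_C)) j (f.fn.obj V)) :=
        ⟨fun a b => ((shiftFunctor _ j).map_isZero (isZero_zero _)).eq_of_tgt a b⟩
      refine ⟨fun x x' _ => ?_, fun y => ⟨theta f V j _ 0,
        ((shiftFunctor _ j).map_isZero (isZero_zero _)).eq_of_tgt _ _⟩⟩
      obtain ⟨g, rfl⟩ := (bijective_theta f V j _).2 x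
      obtain ⟨g', rfl⟩ := (bijective_theta f V j _).2 x'
      rw [h1.elim g g']
    exact IsZero.of_iso (isZero_zero _) (asIso (0 : (SiteCmp.RpushD f).obj 0 ⟶ 0))
  exact Functor.preservesZeroMorphisms_of_map_zero_object hz.isoZero

instance additive_RpushD : (SiteCmp.RpushD f).Additive := by
  haveI : IsGrothendieckAbelian.{u} (ModSite.Mod O_D) := KFlat.isGrothendieck O_D
  haveI : ∀ g : WalkingPair → DerivedCategory (ModSite.Mod O_C),
      PreservesLimit (Discrete.functor g) (SiteCmp.RpushD f) := fun g =>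
    have := isIso_piComparison f g
    PreservesProduct.of_iso_comparison _ _
  haveI := preservesLimitsOfShape_of_discrete (J := WalkingPair) (SiteCmp.RpushD f)
  exact Functor.additive_of_preserves_binary_products _

/-- triangles -/
lemma exists_rpush_triangle {A B E : DerivedCategory (ModSite.Mod O_C)} (g₁ : A ⟶ B) (g₂ : B ⟶ E)
    (g₃ : E ⟶ A⟦(1 : ℤ)⟧) (hT : Triangle.mk g₁ g₂ g₃ ∈ distinguishedTriangles) :
    ∃ c, Triangle.mk ((SiteCmp.RpushD f).map g₁) ((SiteCmp.RpushD f).map g₂) c ∈ distinguishedTriangles := by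
  have hdef := KInj.isDeforming_Qh (exists_kInj (O_C := O_C)) (SiteCmp.pushKh f)
  obtain ⟨I, hI, ⟨eI⟩⟩ := hdef.res B
  obtain ⟨L, hL, ⟨eL⟩⟩ := hdef.res E
  obtain ⟨φ, hφ⟩ := hdef.surj hL (eI.inv ≫ g₂ ≫ eL.hom)
  obtain ⟨F, a, b, h⟩ := distinguished_cocone_triangle₁ φ
  have hF : KInj.kinjProp (ModSite.Mod O_C) F := by
    let P := (HomotopyCategory.subcategoryAcyclic (ModSite.Mod O_C)).rightOrthogonal
    have hI' : P I := (CochainComplex.isKInjective_iff_rightOrthogonal I.as).1 hI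
    have hL' : P L := (CochainComplex.isKInjective_iff_rightOrthogonal L.as).1 hL
    have hF' := P.ext_of_isTriangulatedClosed₁' _ h hI' hL'
    rw [P.isoClosure_eq_self] at hF'
    exact (CochainComplex.isKInjective_iff_rightOrthogonal F.as).2 hF'
  have h1 := DerivedCategory.Qh.map_distinguished (Triangle.mk a φ b) h
  have h2 := DerivedCategory.Qh.map_distinguished _
    ((pushK f).map_distinguished (Triangle.mk a φ b) h)
  have hφ' : DerivedCategory.Qh.map φ ≫ eL.inv = eI.inv ≫ g₂ := by rw [hφ]; simp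
  obtain ⟨e, he₂⟩ : ∃ e : DerivedCategory.Qh.obj F ≅ A,
      e.hom ≫ g₁ = DerivedCategory.Qh.map a ≫ eI.inv := by
    let iso := isoTriangleOfIso₁₂ _ _ (rot_of_distTriang _ h1) (rot_of_distTriang _ hT) eI.symm eL.symm hφ'
    let e₁ : DerivedCategory.Qh.obj F ≅ A :=
      (shiftFunctor (DerivedCategory (ModSite.Mod O_C)) (1 : ℤ)).preimageIso (Triangle.π₃.mapIso iso)
    refine ⟨e₁, (shiftFunctor (DerivedCategory (ModSite.Mod O_C)) (1 : ℤ)).map_injective ?_⟩
    have h3 : (-(DerivedCategory.Qh.map a)⟦(1 : ℤ)⟧') ≫ eI.inv⟦(1 : ℤ)⟧' = iso.hom.hom₃ ≫ (-g₁⟦(1 : ℤ)⟧') :=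
      iso.hom.comm₃
    have h4 := neg_inj.1 ((Preadditive.neg_comp _ _).symm.trans (h3.trans (Preadditive.comp_neg _ _)))
    have h5 : (shiftFunctor (DerivedCategory (ModSite.Mod O_C)) (1 : ℤ)).map e₁.hom = iso.hom.hom₃ :=
      Functor.map_preimage _ _
    rw [Functor.map_comp, Functor.map_comp]
    exact (congrArg (· ≫ _) h5).trans h4.symm
  let eF : (SiteCmp.pushKh f).obj F ≅ (SiteCmp.RpushD f).obj A :=
    @asIso _ _ _ _ ((unit f).app F) (isIso_unit_app f hF) ≪≫ (SiteCmp.RpushD f).mapIso e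
  let eI' : (SiteCmp.pushKh f).obj I ≅ (SiteCmp.RpushD f).obj B :=
    @asIso _ _ _ _ ((unit f).app I) (isIso_unit_app f hI) ≪≫ (SiteCmp.RpushD f).mapIso eI.symm
  let eL' : (SiteCmp.pushKh f).obj L ≅ (SiteCmp.RpushD f).obj E :=
    @asIso _ _ _ _ ((unit f).app L) (isIso_unit_app f hL) ≪≫ (SiteCmp.RpushD f).mapIso eL.symm
  have c₁ : (SiteCmp.pushKh f).map a ≫ eI'.hom = eF.hom ≫ (SiteCmp.RpushD f).map g₁ := by
    simp only [eF, eI', Iso.trans_hom, asIso_hom, Functor.mapIso_hom, Iso.symm_hom, Category.assoc]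
    rw [(unit f).naturality_assoc a, Functor.comp_map]
    simp only [← Functor.map_comp, he₂]
  have c₂ : (SiteCmp.pushKh f).map φ ≫ eL'.hom = eI'.hom ≫ (SiteCmp.RpushD f).map g₂ := by
    simp only [eL', eI', Iso.trans_hom, asIso_hom, Functor.mapIso_hom, Iso.symm_hom, Category.assoc]
    rw [(unit f).naturality_assoc φ, Functor.comp_map]
    simp only [← Functor.map_comp, hφ']
  let w : (SiteCmp.pushKh f).obj L ⟶ ((SiteCmp.pushKh f).obj F)⟦(1 : ℤ)⟧ :=
    (DerivedCategory.Qh.mapTriangle.obj ((pushK f).mapTriangle.obj (Triangle.mk a φ b))).mor₃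
  refine ⟨eL'.inv ≫ w ≫ eF.hom⟦(1 : ℤ)⟧', isomorphic_distinguished _ h2 _
    (Triangle.isoMk _ _ eF eI' eL' c₁ c₂ ?_).symm⟩
  exact (eL'.hom_inv_id_assoc _).symm

/-- `Rf_*` preserves derived limits -/
theorem isRlimVia_rpush (E : ℕ → DerivedCategory (ModSite.Mod O_C)) (t : ∀ n, E (n + 1) ⟶ E n)
    [HasProduct E] (L : DerivedCategory (ModSite.Mod O_C)) (a : ∀ n, L ⟶ E n)
    (hL : CohCx.IsRlimVia E t L a) [HasProduct fun n => (SiteCmp.RpushD f).obj (E n)] :
    CohCx.IsRlimVia (fun n => (SiteCmp.RpushD f).obj (E n)) (fun n => (SiteCmp.RpushD f).map (t n))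
      ((SiteCmp.RpushD f).obj L) (fun n => (SiteCmp.RpushD f).map (a n)) := by
  obtain ⟨c, hT⟩ := hL
  obtain ⟨c', hT'⟩ := exists_rpush_triangle f _ _ _ hT
  have := isIso_piComparison f E
  let e := asIso (piComparison (SiteCmp.RpushD f) E)
  let Δ' : (∏ᶜ fun n => (SiteCmp.RpushD f).obj (E n)) ⟶ ∏ᶜ fun n => (SiteCmp.RpushD f).obj (E n) :=
    Pi.lift fun n => Pi.π (fun n => (SiteCmp.RpushD f).obj (E n)) n -
      Pi.π (fun n => (SiteCmp.RpushD f).obj (E n)) (n + 1) ≫ (SiteCmp.RpushD f).map (t n)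
  let Δ : ∏ᶜ E ⟶ ∏ᶜ E := Pi.lift fun n => Pi.π E n - Pi.π E (n + 1) ≫ t n
  have c₁ : (Pi.lift fun n => (SiteCmp.RpushD f).map (a n)) ≫ e.inv =
      𝟙 _ ≫ (SiteCmp.RpushD f).map (Pi.lift a) := by
    rw [id_comp, ← cancel_mono e.hom, assoc, Iso.inv_hom_id, comp_id]
    exact Pi.hom_ext _ _ fun n => by simp [e, ← Functor.map_comp]
  have c₂ : Δ' ≫ e.inv = e.inv ≫ (SiteCmp.RpushD f).map Δ := by
    rw [← cancel_mono e.hom, Category.assoc, Category.assoc, Iso.inv_hom_id, Category.comp_id, ← cancel_epi e.hom,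
      Iso.hom_inv_id_assoc]
    refine Pi.hom_ext _ _ fun n => ?_
    simp [e, Δ, Δ', ← Functor.map_comp, ← Functor.map_sub]
  refine ⟨e.inv ≫ c', isomorphic_distinguished _ hT' _
    (Triangle.isoMk _ _ (Iso.refl _) e.symm e.symm c₁ c₂ ?_)⟩
  simp

end Groth.Agent.RPushSite
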