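import Groth.Agent.RPushSite.SingleHomology
import Groth.Agent.HDU.TowerLimit
import Groth.Agent.HDU.Cover
import Groth.Prelude.Def_WeakSerre

/-!
`H^j(Rf_* X) = H^j(Rf_* τ_{≥ -n} X)` under local vanishing conditions.
-/

set_option autoImplicit false
set_option linter.style.haveILetI false
set_option linter.unusedSectionVars false
set_option backward.isDefEq.respectTransparency false
set_option backward.isDefEq.respectTransparency.types false
set_option maxHeartbeats 1000000

universe u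

open CategoryTheory Category Limits Opposite Pretriangulated DerivedCategory DerivedCategory.TStructure

namespace Groth.Agent.RPushSite

attribute [local instance] HasDerivedCategory.standard

variable {C : Type u} [SmallCategory C] {J : GrothendieckTopology C} {D : Type u} [SmallCategory D]
  {K : GrothendieckTopology D} {O_C : Sheaf J CommRingCat.{u}} {O_D : Sheaf K CommRingCat.{u}}
  (f : ModSite.RMor O_C O_D) (A : ObjectProperty (ModSite.Mod O_C)) [WSerre.IsWeakSerre A]
  (B : Set C) (B' : Set D)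

lemma hasProduct_truncTower (X : DerivedCategory (ModSite.Mod O_C)) : HasProduct (CohCx.truncTower X) := by
  haveI : IsGrothendieckAbelian.{u} (ModSite.Mod O_C) := KFlat.isGrothendieck O_C
  have := HDU.hasProduct_derived (A := ModSite.Mod O_C) (T := ULift.{u} ℕ)
    (fun n => CohCx.truncTower X n.down)
  exact hasLimit_of_iso (F := (Discrete.equivalence (Equiv.ulift.{u}.symm : ℕ ≃ ULift.{u} ℕ)).functor ⋙
      Discrete.functor fun n : ULift.{u} ℕ => CohCx.truncTower X n.down)
    (Discrete.natIso fun _ => Iso.refl _)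

lemma van_of_bound (X : DerivedCategory (ModSite.Mod O_C)) (hX : WSerre.cohIn A X) {Y : C} {d : ℕ}
    (hY : ∀ F : ModSite.Mod O_C, A F → ∀ k : ℕ, d < k → Subsingleton (ModSite.HU O_C F k Y))
    (i k : ℤ) (hk : (d : ℤ) < k) :
    (HDU.modData O_C).Van ((DerivedCategory.homologyFunctor (ModSite.Mod O_C) i).obj X) k Y := by
  obtain ⟨k', rfl⟩ : ∃ k' : ℕ, k = (k' : ℤ) := ⟨k.toNat, by omega⟩
  exact HDU.modVan O_C _ k' (by omega) Y (hY _ (hX i) k' (by omega))

variable (hB : ∀ U : C, ∃ (ι : Type u) (Y : ι → C) (g : ∀ i, Y i ⟶ U), Sieve.ofArrows Y g ∈ J U ∧ ∀ i, Y i ∈ B)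
  (hA : ∀ V ∈ B, ∃ d : ℕ, ∀ T ∈ J V, ∃ (ι : Type u) (Y : ι → C) (g : ∀ i, Y i ⟶ V), (∀ i, T.arrows (g i)) ∧
    Sieve.ofArrows Y g ∈ J V ∧ ∀ (i : ι) (F : ModSite.Mod O_C), A F → ∀ k : ℕ, d < k →
      Subsingleton (ModSite.HU O_C F k (Y i)))
  (X : DerivedCategory (ModSite.Mod O_C)) (hX : WSerre.cohIn A X)

include hB hA hX in
/-- `X` is the derived limit of its truncations -/
theorem isRlimVia_trunc [HasProduct (CohCx.truncTower X)] :
    CohCx.IsRlimVia (CohCx.truncTower X) (CohCx.truncTowerMap X) X (CohCx.toTruncTower X) := by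
  haveI : IsGrothendieckAbelian.{u} (ModSite.Mod O_C) := KFlat.isGrothendieck O_C
  refine HDU.isRlimVia_of_locally_bounded (HDU.modData O_C) X B hB fun V hV => ?_
  obtain ⟨d, hd⟩ := hA V hV
  refine ⟨fun _ => (d : ℤ), fun T hT => ?_⟩
  obtain ⟨ι, Y, g, h1, h2, h3⟩ := hd T hT
  exact ⟨ι, Y, g, h1, h2, fun i m k hk => van_of_bound A X hX (fun F hF => h3 i F hF) _ _ (by simpa using hk)⟩

include hB hA hX in
/-- on a good object, hypercohomology of `X` is that of a truncation -/
theorem bijective_toTrunc {Y : C} {d : ℕ}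
    (hY : ∀ F : ModSite.Mod O_C, A F → ∀ k : ℕ, d < k → Subsingleton (ModSite.HU O_C F k Y))
    (j : ℤ) (m : ℕ) (hm : (d : ℤ) - j < m) :
    Function.Bijective (fun g : (HDU.modData O_C).HG X j Y => g ≫ (CohCx.toTruncTower X m)⟦j⟧') := by
  haveI : IsGrothendieckAbelian.{u} (ModSite.Mod O_C) := KFlat.isGrothendieck O_C
  haveI := hasProduct_truncTower X
  have hR := isRlimVia_trunc A B hB hA X hX
  have hv : ∀ n : ℕ, m ≤ n → (HDU.modData O_C).Van
      ((DerivedCategory.homologyFunctor (ModSite.Mod O_C) (-(n : ℤ) - 1)).obj X) (j + n + 1) Y :=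
    fun n hn => van_of_bound A X hX hY _ _ (by omega)
  have hc := HDU.tower_conditions (HDU.modData O_C) X m j Y hv
  refine ⟨fun g g' h => sub_eq_zero.1 ((HDU.modData O_C).eq_zero_of_killed hR j m hc.1 hc.2 (g - g')
    ((Preadditive.sub_comp _ _ _).trans (sub_eq_zero.2 h))), fun y => ?_⟩
  obtain ⟨r, hr, hrm⟩ := HDU.exists_compatible (fun n => (HDU.modData O_C).HG (CohCx.truncTower X n) j Y)
    (fun n x => x ≫ (CohCx.truncTowerMap X n)⟦j⟧') m
    (fun n hn => HDU.tower_step_surjective (HDU.modData O_C) X n Y j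
      (van_of_bound A X hX hY _ _ (by omega))) y
  obtain ⟨z, hz⟩ := HDU.exists_lift_rlim hR j r hr
  exact ⟨z, (hz m).trans hrm⟩

variable [HasInjectiveResolutions (ModSite.Mod O_C)] [SiteCmp.HasRpushD f] (N : ℤ)
  (h3 : ∀ F : ModSite.Mod O_C, A F → ∀ p : ℕ, N < (p : ℤ) → IsZero ((f.Rpush p).obj F))

include h3 hX in
/-- the truncation maps are isomorphisms on cohomology of `Rf_*` above `N - n` -/
theorem isIso_homology_step (n : ℕ) (j : ℤ) (hj : N - (n : ℤ) ≤ j) :
    IsIso ((DerivedCategory.homologyFunctor (ModSite.Mod O_D) j).map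
      ((SiteCmp.RpushD f).map (CohCx.truncTowerMap X n))) := by
  obtain ⟨a, ha⟩ : ∃ a : ℤ, a = -(n : ℤ) - 1 := ⟨_, rfl⟩
  have hM : (CohCx.truncTower X (n + 1)).IsGE a := by
    rw [ha]
    exact TStructure.t.isGE_truncGE_obj X _ _ (by omega)
  have hM' : (CohCx.truncTower X n).IsGE (a + 1) := by
    rw [ha]
    exact TStructure.t.isGE_truncGE_obj X _ _ (by omega)
  obtain ⟨F, g, h, hT, ⟨e⟩⟩ := HDU.exists_fibre (CohCx.truncTowerMap X n) a hM hM'
    (fun i hi => HDU.isIso_H_natTransTruncGE X _ _ _ i (by omega))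
  let G := (DerivedCategory.homologyFunctor (ModSite.Mod O_C) a).obj (CohCx.truncTower X (n + 1))
  have hG : A G := by
    subst ha
    exact A.prop_of_iso (HDU.bottomIso X n) (hX _)
  have hz : ∀ i : ℤ, j ≤ i → IsZero ((DerivedCategory.homologyFunctor (ModSite.Mod O_D) i).obj
      ((SiteCmp.RpushD f).obj F)) := fun i hi => by
    obtain ⟨p, hp⟩ : ∃ p : ℕ, i - a = (p : ℤ) ∨ i - a < 0 := by
      rcases lt_or_ge (i - a) 0 with h | h
      · exact ⟨0, Or.inr h⟩
      · exact ⟨(i - a).toNat, Or.inl (by omega)⟩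
    have e' : (DerivedCategory.homologyFunctor (ModSite.Mod O_D) i).obj ((SiteCmp.RpushD f).obj F) ≅
        (DerivedCategory.homologyFunctor (ModSite.Mod O_D) (i - a)).obj
          ((SiteCmp.RpushD f).obj ((DerivedCategory.singleFunctor (ModSite.Mod O_C) 0).obj G)) :=
      (((DerivedCategory.homologyFunctor (ModSite.Mod O_D) 0).shiftIso a (i - a) i (by omega)).app _).symm ≪≫
        (DerivedCategory.homologyFunctor (ModSite.Mod O_D) (i - a)).mapIso
          (((shiftIso f a).app F).symm ≪≫ (SiteCmp.RpushD f).mapIso e)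
    refine IsZero.of_iso ?_ e'
    rcases hp with hp | hp
    · rw [hp]
      exact IsZero.of_iso (h3 G hG p (by omega)) (nonempty_homology_single f G p).some
    · exact isZero_homology_single_neg f G _ hp
  obtain ⟨c, hT'⟩ := exists_rpush_triangle f _ _ _ hT
  have : Mono ((DerivedCategory.homologyFunctor (ModSite.Mod O_D) j).map
      ((SiteCmp.RpushD f).map (CohCx.truncTowerMap X n))) :=
    (HomologySequence.exact₂ _ hT' j).mono_g ((hz j le_rfl).eq_of_src _ _)
  have : Epi ((DerivedCategory.homologyFunctor (ModSite.Mod O_D) j).map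
      ((SiteCmp.RpushD f).map (CohCx.truncTowerMap X n))) :=
    (HomologySequence.exact₃ _ hT' j (j + 1) rfl).epi_f ((hz (j + 1) (by omega)).eq_of_tgt _ _)
  exact isIso_of_mono_of_epi _

include h3 hX in
theorem isIso_homology_transition (n : ℕ) (j : ℤ) (hj : N - (n : ℤ) ≤ j) : ∀ k : ℕ,
    IsIso ((DerivedCategory.homologyFunctor (ModSite.Mod O_D) j).map
      ((SiteCmp.RpushD f).map (CohCx.transition (CohCx.truncTower X) (CohCx.truncTowerMap X) n k)))
  | 0 => by
    rw [CohCx.transition]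
    erw [CategoryTheory.Functor.map_id, CategoryTheory.Functor.map_id]
    infer_instance
  | k + 1 => by
    rw [CohCx.transition, Functor.map_comp, Functor.map_comp]
    have := isIso_homology_transition n j hj k
    have := isIso_homology_step f A X hX N h3 (n + k) j (by omega)
    infer_instance

include hB hA hX h3 in
/-- `H^j(Rf_* X) → H^j(Rf_* τ_{≥ -n} X)` is an isomorphism -/
theorem isIso_homology_rpush_trunc
    (hB' : ∀ U : D, ∃ (ι : Type u) (Y : ι → D) (g : ∀ i, Y i ⟶ U), Sieve.ofArrows Y g ∈ K U ∧ ∀ i, Y i ∈ B')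
    (hA' : ∀ V ∈ B', ∃ d : ℕ, ∀ T ∈ K V, ∃ (ι : Type u) (Y : ι → D) (g : ∀ i, Y i ⟶ V), (∀ i, T.arrows (g i)) ∧
      Sieve.ofArrows Y g ∈ K V ∧ ∀ (i : ι) (F : ModSite.Mod O_C), A F → ∀ k : ℕ, d < k →
        Subsingleton (ModSite.HU O_C F k (f.fn.obj (Y i))))
    (n : ℕ) (j : ℤ) (hj : N - (n : ℤ) ≤ j) :
    IsIso ((DerivedCategory.homologyFunctor (ModSite.Mod O_D) j).map
      ((SiteCmp.RpushD f).map (CohCx.toTruncTower X n))) := by
  haveI : IsGrothendieckAbelian.{u} (ModSite.Mod O_D) := KFlat.isGrothendieck O_D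
  haveI : IsGrothendieckAbelian.{u} (ModSite.Mod O_C) := KFlat.isGrothendieck O_C
  haveI := hasProduct_truncTower X
  have hR := isRlimVia_trunc A B hB hA X hX
  let S := HDU.modData O_D
  let tr := fun k => (SiteCmp.RpushD f).map (CohCx.transition (CohCx.truncTower X) (CohCx.truncTowerMap X) n k)
  let π := fun m => (SiteCmp.RpushD f).map (CohCx.toTruncTower X m)
  let H := DerivedCategory.homologyFunctor (ModSite.Mod O_D) j
  have hfac : ∀ k, π (n + k) ≫ tr k = π n := fun k => by
    simp only [π, tr]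
    rw [← Functor.map_comp, HDU.comp_transition hR]
  have hbij : ∀ k (W : D), Function.Bijective ((S.Φ.map (H.map (tr k))).hom.app (op W)) := fun k W => by
    have := isIso_homology_transition f A X hX N h3 n j hj k
    exact HDU.sections_map_bijective S _ W
  refine S.isIso_homology_of_locally_bijective _ j (fun V x hx => ?_) fun V y => ?_
  · let T : Sieve V :=
      { arrows := fun W g => S.η _ j W (S.res _ j g x) = 0
        downward_closed := fun {W W' g} hg a => by
          rw [S.η_res] at hg ⊢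
          rw [op_comp, Functor.map_comp, ConcreteCategory.comp_apply, hg, map_zero] }
    refine ⟨T, ?_, fun W g hg => hg⟩
    obtain ⟨ι, Z, g, hcov, hZ⟩ := hB' V
    refine K.transitive hcov _ fun W' g' hg' => ?_
    obtain ⟨_, b, e, ⟨i⟩, rfl⟩ := hg'
    rw [Sieve.pullback_comp]
    refine K.pullback_stable b ?_
    obtain ⟨d, hd⟩ := hA' (Z i) (hZ i)
    let k := ((d : ℤ) - j + 1).toNat
    have hk0 : S.η _ j (Z i) (S.res _ j (g i) x ≫ (π (n + k))⟦j⟧') = 0 := by
      refine (hbij k (Z i)).1 (Eq.trans ?_ (map_zero _).symm)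
      refine (S.η_comp (tr k) j (Z i) _).symm.trans ?_
      rw [assoc, ← Functor.map_comp, hfac]
      have : S.res _ j (g i) x ≫ (π n)⟦j⟧' = 0 := by
        change ((DerivedCategory.singleFunctor (ModSite.Mod O_D) 0).map (S.Pmap (g i)) ≫ x) ≫ (π n)⟦j⟧' = 0
        rw [assoc, hx, comp_zero]
      rw [this, map_zero]
    obtain ⟨T', hT', hT''⟩ := S.η_locally_injective _ j (Z i) _ hk0
    obtain ⟨ι', Z', g'', h1, h2, h3'⟩ := hd T' hT'
    refine K.superset_covering ?_ h2
    rintro W'' a ⟨_, b', e', ⟨i'⟩, rfl⟩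
    have hmem : T (g'' i' ≫ g i) := by
      change S.η _ j (Z' i') (S.res _ j (g'' i' ≫ g i) x) = 0
      rw [S.η_res, op_comp, Functor.map_comp, ConcreteCategory.comp_apply, ← S.η_res, ← S.η_res]
      obtain ⟨w, hw⟩ := (bijective_theta f (Z' i') j X).2 (S.res _ j (g'' i') (S.res _ j (g i) x))
      rw [← hw]
      suffices w = 0 by rw [this, theta_zero, map_zero]
      refine (bijective_toTrunc A B hB hA X hX (fun F hF => h3' i' F hF) j (n + k) (by omega)).1 ?_
      refine (bijective_theta f (Z' i') j _).1 ?_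
      rw [theta_comp, hw]
      refine Eq.trans ?_ ((theta_zero f (Z' i') j _).symm.trans (congrArg _ zero_comp.symm))
      refine Eq.trans ?_ (hT'' _ (g'' i') (h1 i'))
      change ((DerivedCategory.singleFunctor (ModSite.Mod O_D) 0).map (S.Pmap (g'' i')) ≫ _) ≫ _ = _
      exact assoc _ _ _
    simpa [Sieve.pullback_apply, assoc] using! T.downward_closed hmem b'
  · refine ⟨Presheaf.imageSieve (S.Φ.map (H.map (π n))).hom (S.η _ j V y), ?_, fun W g hg => ?_⟩
    · obtain ⟨ι, Z, g, hcov, hZ⟩ := hB' V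
      refine K.transitive hcov _ fun W' g' hg' => ?_
      obtain ⟨_, b, e, ⟨i⟩, rfl⟩ := hg'
      rw [Sieve.pullback_comp]
      refine K.pullback_stable b ?_
      obtain ⟨d, hd⟩ := hA' (Z i) (hZ i)
      let k := ((d : ℤ) - j + 1).toNat
      obtain ⟨γ', hγ'⟩ := (hbij k (Z i)).2 ((S.HS _ j).obj.map (g i).op (S.η _ j V y))
      obtain ⟨T', hT', hT''⟩ := S.η_locally_surjective _ j (Z i) γ'
      obtain ⟨ι', Z', g'', h1, h2, h3'⟩ := hd T' hT'
      refine K.superset_covering ?_ h2
      rintro W'' a ⟨_, b', e', ⟨i'⟩, rfl⟩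
      refine Sieve.downward_closed _ ?_ b'
      obtain ⟨x', hx'⟩ := hT'' _ (g'' i') (h1 i')
      obtain ⟨z', hz'⟩ := (bijective_theta f (Z' i') j _).2 x'
      obtain ⟨w, hw⟩ := (bijective_toTrunc A B hB hA X hX (fun F hF => h3' i' F hF) j (n + k) (by omega)).2 z'
      dsimp only at hw
      refine ⟨S.η _ j (Z' i') (theta f (Z' i') j X w), ?_⟩
      refine (S.η_comp (π n) j (Z' i') _).symm.trans ?_
      rw [← hfac k, Functor.map_comp, ← assoc, ← theta_comp, hw, hz']
      refine (S.η_comp (tr k) j (Z' i') x').trans ?_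
      rw [hx']
      refine (NatTrans.naturality_apply (S.Φ.map (H.map (tr k))).hom (g'' i').op γ').trans ?_
      rw [hγ', op_comp, Functor.map_comp, ConcreteCategory.comp_apply]
    · obtain ⟨γ, hγ⟩ := hg
      exact ⟨γ, hγ.trans (S.η_res _ j g y).symm⟩

end Groth.Agent.RPushSite
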