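import Groth.Agent.RPushSite.Equivalence
import Groth.Agent.CohQC.ToSheafExact

/-!
The comparison morphism of two topologies and subcategories acyclic on a basis.
-/

set_option autoImplicit false
set_option linter.style.haveILetI false
set_option linter.unusedSectionVars false
set_option backward.isDefEq.respectTransparency false
set_option backward.isDefEq.respectTransparency.types false
set_option maxHeartbeats 1000000

universe u

open CategoryTheory Category Limits Opposite Pretriangulated DerivedCategory DerivedCategory.TStructure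

namespace Groth.Agent.RPushSite

attribute [local instance] HasDerivedCategory.standard

section General

variable {C : Type u} [SmallCategory C] {J : GrothendieckTopology C} {D : Type u} [SmallCategory D]
  {K : GrothendieckTopology D} {O_C : Sheaf J CommRingCat.{u}} {O_D : Sheaf K CommRingCat.{u}}
  (f : ModSite.RMor O_C O_D)

/-- every module is acyclic for a flat morphism -/
theorem fAcyc_of_flat [PreservesFiniteLimits f.pull] (F : ModSite.Mod O_D) : FAcyc f F := by
  haveI : IsGrothendieckAbelian.{u} (ModSite.Mod O_D) := KFlat.isGrothendieck O_D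
  intro E hE p
  haveI : Injective (f.push.obj E) := Injective.injective_of_adjoint f.adj E
  exact SiteCoh.subsingleton_ext_injective F (f.push.obj E) p

variable [SiteCmp.HasRpushD f]

/-- the unit of an adjunction is invertible where some universal arrow is -/
theorem isIso_unit_of_uMap [PreservesFiniteLimits f.pull] (adj : SiteCmp.pullD f ⊣ SiteCmp.RpushD f)
    (X : DerivedCategory (ModSite.Mod O_D)) {M : DerivedCategory (ModSite.Mod O_C)}
    (v : X ⟶ (SiteCmp.RpushD f).obj M) [IsIso v]
    (hv : ∀ N, Function.Bijective (fun g : M ⟶ N => v ≫ (SiteCmp.RpushD f).map g)) :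
    IsIso (adj.unit.app X) := by
  obtain ⟨b, hb⟩ := (hv _).2 (adj.unit.app X)
  let b' := (adj.homEquiv X M).symm v
  have hb' : adj.unit.app X ≫ (SiteCmp.RpushD f).map b' = v :=
    (adj.homEquiv_unit X M b').symm.trans ((adj.homEquiv X M).apply_symm_apply v)
  dsimp only at hb
  have h1 : b ≫ b' = 𝟙 M := (hv M).1 (by
    change v ≫ (SiteCmp.RpushD f).map (b ≫ b') = v ≫ (SiteCmp.RpushD f).map (𝟙 M)
    rw [Functor.map_comp, ← assoc, hb, hb', CategoryTheory.Functor.map_id, comp_id])
  have h2 : b' ≫ b = 𝟙 _ := (adj.homEquiv X _).injective (by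
    rw [adj.homEquiv_unit, adj.homEquiv_unit, Functor.map_comp, ← assoc, hb', hb,
      CategoryTheory.Functor.map_id]
    exact (comp_id _).symm)
  have : IsIso b := ⟨b', h1, h2⟩
  rw [← hb]
  infer_instance

/-- vanishing of cohomology of `Rf_*` -/
theorem isZero_homology_rpush (M : DerivedCategory (ModSite.Mod O_C)) (i : ℤ)
    (h : ∀ V : D, ∃ (ι : Type u) (Z : ι → D) (g : ∀ j, Z j ⟶ V), Sieve.ofArrows Z g ∈ K V ∧
      ∀ j, Subsingleton ((HDU.modData O_C).HG M i (f.fn.obj (Z j)))) :
    IsZero ((DerivedCategory.homologyFunctor (ModSite.Mod O_D) i).obj ((SiteCmp.RpushD f).obj M)) := by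
  haveI : IsGrothendieckAbelian.{u} (ModSite.Mod O_D) := KFlat.isGrothendieck O_D
  let S := HDU.modData O_D
  refine (IsZero.iff_id_eq_zero _).2 (S.Φ.map_injective ?_)
  rw [Functor.map_zero]
  refine Sheaf.hom_ext ?_
  ext U γ
  change (S.Φ.map (𝟙 _)).hom.app U γ = 0
  rw [CategoryTheory.Functor.map_id]
  change γ = 0
  obtain ⟨T, hT, hT'⟩ := S.η_locally_surjective _ i U.unop γ
  refine S.eq_zero_of_cover _ i γ hT fun W g hg => ?_
  obtain ⟨x, hx⟩ := hT' W g hg
  rw [← hx]
  obtain ⟨ι, Z, g', hcov, hZ⟩ := h W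
  refine S.eq_zero_of_cover _ i _ hcov fun W' a ha => ?_
  obtain ⟨_, b, e, ⟨j⟩, rfl⟩ := ha
  rw [op_comp, Functor.map_comp, ConcreteCategory.comp_apply, ← S.η_res]
  obtain ⟨w, hw⟩ := (bijective_theta f (Z j) i M).2 (S.res _ i (g' j) x)
  rw [← hw, (hZ j).elim w 0, theta_zero, map_zero, map_zero]

/-- `f_* F[0] ≅ Rf_* F[0]` when the higher direct images vanish -/
theorem isIso_unit_single (F : ModSite.Mod O_C)
    (hz : ∀ i : ℤ, i ≠ 0 → IsZero ((DerivedCategory.homologyFunctor (ModSite.Mod O_D) i).obj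
      ((SiteCmp.RpushD f).obj ((DerivedCategory.singleFunctor (ModSite.Mod O_C) 0).obj F)))) :
    IsIso ((unit f).app ((HomotopyCategory.quotient _ _).obj ((CochainComplex.singleFunctor _ 0).obj F))) := by
  haveI : IsGrothendieckAbelian.{u} (ModSite.Mod O_D) := KFlat.isGrothendieck O_D
  let qC := HomotopyCategory.quotient (ModSite.Mod O_C) (ComplexShape.up ℤ)
  let qD := HomotopyCategory.quotient (ModSite.Mod O_D) (ComplexShape.up ℤ)
  let sC := qC.obj ((CochainComplex.singleFunctor _ 0).obj F)
  let eS : (pushK f).obj sC ≅ qD.obj ((CochainComplex.singleFunctor _ 0).obj (f.push.obj F)) :=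
    qD.mapIso ((HomologicalComplex.singleMapHomologicalComplex f.push (ComplexShape.up ℤ) 0).app F)
  let eC : DerivedCategory.Qh.obj sC ≅ (DerivedCategory.singleFunctor (ModSite.Mod O_C) 0).obj F :=
    (DerivedCategory.quotientCompQhIso (ModSite.Mod O_C)).app _
  let φ := (unit f).app sC
  let eD : (SiteCmp.pushKh f).obj sC ≅ (DerivedCategory.singleFunctor (ModSite.Mod O_D) 0).obj (f.push.obj F) :=
    DerivedCategory.Qh.mapIso eS ≪≫ (DerivedCategory.quotientCompQhIso (ModSite.Mod O_D)).app _
  let φ' := eD.inv ≫ φ ≫ (SiteCmp.RpushD f).map eC.hom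
  suffices IsIso φ' by
    have h : φ = eD.hom ≫ φ' ≫ (SiteCmp.RpushD f).map eC.inv := by
      simp [φ', ← Functor.map_comp]
    change IsIso φ
    rw [h]
    infer_instance
  rw [DerivedCategory.isIso_iff]
  intro j
  by_cases hj : j = 0
  · subst hj
    have hb : ∀ V : D, Function.Bijective
        (fun x : (DerivedCategory.singleFunctor _ 0).obj (HDU.freeMod O_D V) ⟶
          (DerivedCategory.singleFunctor _ 0).obj (f.push.obj F) => x ≫ φ') := by
      intro V
      let W := qD.obj ((CochainComplex.singleFunctor _ 0).obj (HDU.freeMod O_D V))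
      let eW : DerivedCategory.Qh.obj W ≅ (DerivedCategory.singleFunctor _ 0).obj (HDU.freeMod O_D V) :=
        (DerivedCategory.quotientCompQhIso (ModSite.Mod O_D)).app _
      have hu := bijective_uMap f (good_single f _ (fAcyc_freeMod f V))
        ((DerivedCategory.singleFunctor (ModSite.Mod O_C) 0).obj F)
      -- homotopy classes between modules in degree `0`
      have h1 : Function.Bijective (DerivedCategory.Qh.map : ((pullK f).obj W ⟶ sC) → _) := by
        let e : (pullK f).obj W ≅ qC.obj ((CochainComplex.singleFunctor _ 0).obj (f.pull.obj (HDU.freeMod O_D V))) :=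
          qC.mapIso ((HomologicalComplex.singleMapHomologicalComplex f.pull (ComplexShape.up ℤ) 0).app _)
        exact bijective_Qh_map_singles e (Iso.refl sC)
      have h2 : Function.Bijective (DerivedCategory.Qh.map : (W ⟶ (pushK f).obj sC) → _) :=
        bijective_Qh_map_singles (Iso.refl W) eS
      have key : ∀ g : (pullK f).obj W ⟶ sC,
          uMap f W ≫ (SiteCmp.RpushD f).map (DerivedCategory.Qh.map g ≫ eC.hom) =
            eW.hom ≫ (eW.inv ≫ DerivedCategory.Qh.map ((adjK f).homEquiv W sC g) ≫ eD.hom) ≫ φ' := fun g => by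
        rw [uMap, Adjunction.homEquiv_unit, Functor.map_comp, Functor.map_comp, assoc, assoc, assoc]
        simp only [φ', φ, assoc, Iso.hom_inv_id_assoc]
        refine congrArg (_ ≫ ·) ?_
        rw [← assoc, ← assoc]
        exact congrArg (· ≫ _) ((unit f).naturality g).symm
      constructor
      · intro x x' hxx
        obtain ⟨a, ha⟩ := h2.2 (eW.hom ≫ x ≫ eD.inv)
        obtain ⟨a', ha'⟩ := h2.2 (eW.hom ≫ x' ≫ eD.inv)
        obtain ⟨g, rfl⟩ := ((adjK f).homEquiv W sC).surjective a
        obtain ⟨g', rfl⟩ := ((adjK f).homEquiv W sC).surjective a'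
        have hx1 : x = eW.inv ≫ DerivedCategory.Qh.map ((adjK f).homEquiv W sC g) ≫ eD.hom := by
          rw [ha]; simp
        have hx2 : x' = eW.inv ≫ DerivedCategory.Qh.map ((adjK f).homEquiv W sC g') ≫ eD.hom := by
          rw [ha']; simp
        have := hu.1 (a₁ := DerivedCategory.Qh.map g ≫ eC.hom) (a₂ := DerivedCategory.Qh.map g' ≫ eC.hom)
          (by
            dsimp only
            rw [key, key, ← hx1, ← hx2]
            exact congrArg (eW.hom ≫ ·) hxx)
        rw [cancel_mono] at this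
        rw [hx1, hx2, h1.1 this]
      · intro y
        obtain ⟨z, hz'⟩ := hu.2 (eW.hom ≫ y)
        obtain ⟨g, hg⟩ := h1.2 (z ≫ eC.inv)
        refine ⟨eW.inv ≫ DerivedCategory.Qh.map ((adjK f).homEquiv W sC g) ≫ eD.hom, ?_⟩
        dsimp only at hz' ⊢
        have hg' : DerivedCategory.Qh.map g ≫ eC.hom = z := by rw [hg]; simp
        rw [← cancel_epi eW.hom, ← key, hg', hz']
    let S := HDU.modData O_D
    let z0 := fun (M : DerivedCategory (ModSite.Mod O_D)) =>
      (shiftFunctorZero (DerivedCategory (ModSite.Mod O_D)) ℤ).app M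
    refine S.isIso_homology_of_locally_bijective φ' 0 (fun V x hx => ⟨⊤, K.top_mem V, fun W g _ => ?_⟩)
      fun V y => ⟨⊤, K.top_mem V, fun W g _ => ?_⟩
    · have hx0 : x ≫ (z0 _).hom = 0 := (hb V).1 (by
        dsimp only
        rw [zero_comp, assoc]
        refine (congrArg (x ≫ ·)
          ((shiftFunctorZero (DerivedCategory (ModSite.Mod O_D)) ℤ).hom.naturality φ').symm).trans ?_
        rw [← assoc, hx, zero_comp])
      rw [show x = 0 by rw [← cancel_mono (z0 _).hom, hx0, zero_comp], map_zero, map_zero]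
    · obtain ⟨x, hx⟩ := (hb W).2 (S.res _ 0 g y ≫ (z0 _).hom)
      refine ⟨S.η _ 0 W (x ≫ (z0 _).inv), ?_⟩
      refine (S.η_comp φ' 0 W _).symm.trans (congrArg (S.η _ 0 W) ?_)
      dsimp only at hx
      rw [assoc]
      refine (congrArg (x ≫ ·)
        ((shiftFunctorZero (DerivedCategory (ModSite.Mod O_D)) ℤ).inv.naturality φ').symm).trans ?_
      rw [Functor.id_map, ← assoc, hx, assoc]
      exact (congrArg (_ ≫ ·) (z0 _).hom_inv_id).trans (comp_id _)
  · have h1 : IsZero ((DerivedCategory.homologyFunctor (ModSite.Mod O_D) j).obj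
        ((DerivedCategory.singleFunctor (ModSite.Mod O_D) 0).obj (f.push.obj F))) := by
      rcases lt_or_gt_of_ne hj with h | h
      · exact DerivedCategory.isZero_of_isGE _ 0 j h
      · exact DerivedCategory.isZero_of_isLE _ 0 j h
    exact ⟨0, h1.eq_of_src _ _, (hz j hj).eq_of_src _ _⟩
where
  bijective_Qh_map_singles {A : Type (u + 1)} [Category.{u} A] [Abelian A] {X Y : A}
      {P Q : HomotopyCategory A (ComplexShape.up ℤ)}
      (eP : P ≅ (HomotopyCategory.quotient A _).obj ((CochainComplex.singleFunctor A 0).obj X))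
      (eQ : Q ≅ (HomotopyCategory.quotient A _).obj ((CochainComplex.singleFunctor A 0).obj Y)) :
      Function.Bijective (DerivedCategory.Qh.map : (P ⟶ Q) → _) := by
    have key : Function.Bijective (DerivedCategory.Qh.map :
        ((HomotopyCategory.quotient A _).obj ((CochainComplex.singleFunctor A 0).obj X) ⟶
          (HomotopyCategory.quotient A _).obj ((CochainComplex.singleFunctor A 0).obj Y)) → _) := by
      have hnat := fun (a : X ⟶ Y) => DerivedCategory.quotientCompQhIso_hom_naturality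
        ((CochainComplex.singleFunctor A 0).map a)
      refine ⟨fun g g' h => ?_, fun z => ?_⟩
      · obtain ⟨g₀, rfl⟩ := (HomotopyCategory.quotient A (ComplexShape.up ℤ)).map_surjective g
        obtain ⟨g₀', rfl⟩ := (HomotopyCategory.quotient A (ComplexShape.up ℤ)).map_surjective g'
        obtain ⟨a, rfl⟩ := (CochainComplex.singleFunctor A 0).map_surjective g₀
        obtain ⟨a', rfl⟩ := (CochainComplex.singleFunctor A 0).map_surjective g₀'
        suffices a = a' by rw [this]
        refine (DerivedCategory.singleFunctor A 0).map_injective ?_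
        change DerivedCategory.Q.map _ = DerivedCategory.Q.map _
        rw [← cancel_epi ((DerivedCategory.quotientCompQhIso A).hom.app _)]
        exact (hnat a).symm.trans ((congrArg (· ≫ _) h).trans (hnat a'))
      · obtain ⟨a, ha⟩ := (DerivedCategory.singleFunctor A 0).map_surjective
          (((DerivedCategory.quotientCompQhIso A).app _).inv ≫ z ≫ ((DerivedCategory.quotientCompQhIso A).app _).hom)
        refine ⟨(HomotopyCategory.quotient A _).map ((CochainComplex.singleFunctor A 0).map a), ?_⟩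
        rw [← cancel_mono ((DerivedCategory.quotientCompQhIso A).hom.app _), hnat]
        refine (congrArg (_ ≫ ·) ha).trans ?_
        exact ((DerivedCategory.quotientCompQhIso A).app _).hom_inv_id_assoc _
    refine ⟨fun g g' h => ?_, fun z => ?_⟩
    · have := key.1 (a₁ := eP.inv ≫ g ≫ eQ.hom) (a₂ := eP.inv ≫ g' ≫ eQ.hom) (by simp [h])
      simpa using this
    · obtain ⟨g, hg⟩ := key.2 (DerivedCategory.Qh.map eP.inv ≫ z ≫ DerivedCategory.Qh.map eQ.hom)
      refine ⟨eP.hom ≫ g ≫ eQ.inv, ?_⟩
      rw [Functor.map_comp, Functor.map_comp, hg]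
      simp only [assoc]
      rw [← Functor.map_comp_assoc, Iso.hom_inv_id, CategoryTheory.Functor.map_id, id_comp,
        ← Functor.map_comp, Iso.hom_inv_id, CategoryTheory.Functor.map_id, comp_id]

end General

section TwoTopologies

variable {C : Type u} [SmallCategory C] {J J' : GrothendieckTopology C} (h : J' ≤ J) (O : Sheaf J CommRingCat.{u})

instance faithful_eps_push : (SiteCmp.eps h O).push.Faithful where
  map_injective {F G} a b hab := by
    refine SheafOfModules.hom_ext (PresheafOfModules.hom_ext fun V => ?_)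
    ext x
    exact congrArg (fun φ : (SiteCmp.eps h O).push.obj F ⟶ (SiteCmp.eps h O).push.obj G => φ.val.app V x) hab

instance full_eps_push : (SiteCmp.eps h O).push.Full where
  map_surjective {F G} φ := by
    let ψ : F.val.presheaf ⟶ G.val.presheaf :=
      { app := fun V => AddCommGrpCat.ofHom (φ.val.app V).hom.toAddMonoidHom
        naturality := fun V W a => by
          ext x
          exact PresheafOfModules.naturality_apply φ.val a x }
    refine ⟨⟨PresheafOfModules.homMk ψ fun V r m => ?_⟩, ?_⟩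
    · exact (φ.val.app V).hom.map_smul r m
    · rfl

variable [PreservesFiniteLimits (SiteCmp.eps h O).pull] (A : ObjectProperty (ModSite.Mod O))
  [WSerre.IsWeakSerre A] (B : Set C)
  (h3 : ∀ U : C, ∃ (ι : Type u) (Y : ι → C) (g : ∀ i, Y i ⟶ U), Sieve.ofArrows Y g ∈ J' U ∧ ∀ i, Y i ∈ B)
  (h4 : ∀ U ∈ B, ∀ F : ModSite.Mod O, A F → ∀ p : ℕ, 0 < p → Subsingleton (ModSite.HU O F p U))

include h3 h4 in
theorem eps_push_shortExact {S : ShortComplex (ModSite.Mod O)} (hS : S.ShortExact) (h1 : A S.X₁) :
    (S.map (SiteCmp.eps h O).push).ShortExact := by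
  have := hS.mono_f
  haveI := Functor.preservesMonomorphisms_of_adjunction (SiteCmp.eps h O).adj
  haveI : Mono ((SiteCmp.eps h O).push.map S.f) := Functor.map_mono _ _
  have hsurj : Epi ((SiteCmp.eps h O).push.map S.g) := by
    let T : ModSite.Mod (SiteCmp.epsRing h O) ⥤ Sheaf J' AddCommGrpCat.{u} :=
      SheafOfModules.toSheaf.{u} (ModSite.ringSh (SiteCmp.epsRing h O))
    have : Sheaf.IsLocallySurjective (T.map ((SiteCmp.eps h O).push.map S.g)) := ⟨fun {U} s => by
      obtain ⟨ι, Z, g, hcov, hZ⟩ := h3 U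
      refine J'.superset_covering ?_ hcov
      rintro W a ⟨_, b, e, ⟨i⟩, rfl⟩
      refine Sieve.downward_closed _ ?_ b
      haveI : PreservesFiniteLimits (SheafOfModules.toSheaf.{u} (ModSite.ringSh O)) := inferInstance
      have hT := hS.map_of_exact (SheafOfModules.toSheaf.{u} (ModSite.ringSh O))
      haveI : Subsingleton (CohSite.HU (S.map (SheafOfModules.toSheaf.{u} (ModSite.ringSh O))).X₁ 1 (Z i)) :=
        h4 _ (hZ i) _ h1 1 one_pos
      exact SiteCoh.sections_surjective hT (Z i) _⟩
    have hE : Epi (T.map ((SiteCmp.eps h O).push.map S.g)) :=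
      (Sheaf.isLocallySurjective_iff_epi' AddCommGrpCat.{u} (T.map ((SiteCmp.eps h O).push.map S.g))).1 this
    haveI : T.Faithful := inferInstanceAs (SheafOfModules.toSheaf.{u} (ModSite.ringSh (SiteCmp.epsRing h O))).Faithful
    exact T.epi_of_epi_map hE
  exact { exact := ShortComplex.exact_of_f_is_kernel _
            (KernelFork.mapIsLimit _ hS.fIsKernel (SiteCmp.eps h O).push)
          mono_f := inferInstanceAs (Mono ((SiteCmp.eps h O).push.map S.f))
          epi_g := hsurj }

include h3 h4 in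
theorem isWeakSerre_map_eps : WSerre.IsWeakSerre (A.map (SiteCmp.eps h O).push) := by
  let e := SiteCmp.eps h O
  haveI : IsIso e.adj.counit := Adjunction.counit_isIso_of_R_fully_faithful e.adj
  refine { exists_zero := ?_, kernels_le := ?_, cokernels_le := ?_, prop_X₂_of_shortExact := ?_ }
  · obtain ⟨Z, hZ, hPZ⟩ := A.exists_prop_of_containsZero
    exact ⟨_, e.push.map_isZero hZ, A.prop_map_obj _ hPZ⟩
  · rintro _ ⟨φ, k, hl, ⟨F, hF, ⟨eF⟩⟩, ⟨G, hG, ⟨eG⟩⟩⟩
    obtain ⟨ψ, hψ⟩ := e.push.map_surjective (eF.hom ≫ φ ≫ eG.inv)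
    refine ⟨kernel ψ, A.prop_kernel ψ hF hG, ⟨?_⟩⟩
    refine (PreservesKernel.iso e.push ψ) ≪≫ ?_
    exact kernel.mapIso (e.push.map ψ) φ eF eG (by rw [hψ]; simp) ≪≫
      IsLimit.conePointUniqueUpToIso (limit.isLimit _) hl
  · rintro _ ⟨φ, k, hl, ⟨F, hF, ⟨eF⟩⟩, ⟨G, hG, ⟨eG⟩⟩⟩
    obtain ⟨ψ, hψ⟩ := e.push.map_surjective (eF.hom ≫ φ ≫ eG.inv)
    have hI : A (Abelian.image ψ) := A.prop_kernel _ hG (A.prop_cokernel ψ hF hG)
    let S₁ : ShortComplex (ModSite.Mod O) := ShortComplex.mk (Abelian.image.ι ψ) (cokernel.π ψ) (kernel.condition _)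
    have hS₁ : S₁.ShortExact :=
      { exact := ShortComplex.exact_of_f_is_kernel _ (kernelIsKernel _) }
    have hS₁' := eps_push_shortExact h O A B h3 h4 hS₁ hI
    let S₀ : ShortComplex (ModSite.Mod O) :=
      ShortComplex.mk (kernel.ι ψ) (Abelian.factorThruImage ψ) (by
        rw [← cancel_mono (Abelian.image.ι ψ)]; simp)
    have hS₀ : S₀.ShortExact :=
      { exact := by
          have hx : (ShortComplex.mk (kernel.ι ψ) ψ (kernel.condition ψ)).Exact :=
            ShortComplex.exact_of_f_is_kernel _ (kernelIsKernel ψ)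
          let m : S₀ ⟶ ShortComplex.mk (kernel.ι ψ) ψ (kernel.condition ψ) :=
            { τ₁ := 𝟙 _, τ₂ := 𝟙 _, τ₃ := Abelian.image.ι ψ }
          exact (ShortComplex.exact_iff_of_epi_of_isIso_of_mono m).2 hx }
    haveI : Epi (e.push.map (Abelian.factorThruImage ψ)) :=
      (eps_push_shortExact h O A B h3 h4 hS₀ (A.prop_kernel ψ hF hG)).epi_g
    refine ⟨cokernel ψ, A.prop_cokernel ψ hF hG, ⟨?_⟩⟩
    have hcok : IsColimit (CokernelCofork.ofπ (e.push.map (cokernel.π ψ))
        (show e.push.map ψ ≫ e.push.map (cokernel.π ψ) = 0 by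
          rw [← Functor.map_comp, cokernel.condition, Functor.map_zero])) := by
      refine isCokernelEpiComp hS₁'.gIsCokernel (e.push.map (Abelian.factorThruImage ψ)) ?_
      change e.push.map ψ = e.push.map (Abelian.factorThruImage ψ) ≫ e.push.map (Abelian.image.ι ψ)
      rw [← Functor.map_comp, Abelian.image.fac]
    exact IsColimit.coconePointUniqueUpToIso hcok (cokernelIsCokernel _) ≪≫
      cokernel.mapIso (e.push.map ψ) φ eF eG (by rw [hψ]; simp) ≪≫
      IsColimit.coconePointUniqueUpToIso (colimit.isColimit _) hl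
  · rintro S hS ⟨F₁, h₁, ⟨e₁⟩⟩ ⟨F₃, h₃, ⟨e₃⟩⟩
    have hS' := hS.map_of_exact e.pull
    have k₁ : e.pull.obj S.X₁ ≅ F₁ := e.pull.mapIso e₁.symm ≪≫ asIso (e.adj.counit.app F₁)
    have k₃ : e.pull.obj S.X₃ ≅ F₃ := e.pull.mapIso e₃.symm ≪≫ asIso (e.adj.counit.app F₃)
    have a₁ : A (e.pull.obj S.X₁) := A.prop_of_iso k₁.symm h₁
    have a₃ : A (e.pull.obj S.X₃) := A.prop_of_iso k₃.symm h₃
    have a₂ : A (e.pull.obj S.X₂) := A.prop_X₂_of_shortExact hS' a₁ a₃
    have hS'' := eps_push_shortExact h O A B h3 h4 hS' a₁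
    let m : S ⟶ (S.map e.pull).map e.push :=
      { τ₁ := e.adj.unit.app _, τ₂ := e.adj.unit.app _, τ₃ := e.adj.unit.app _
        comm₁₂ := (e.adj.unit.naturality S.f).symm
        comm₂₃ := (e.adj.unit.naturality S.g).symm }
    have hu : ∀ {X : ModSite.Mod (SiteCmp.epsRing h O)} {F : ModSite.Mod O}, (e.push.obj F ≅ X) →
        IsIso (e.adj.unit.app X) := fun {X F} i => by
      have h0 : IsIso (e.adj.unit.app (e.push.obj F)) := by
        have h' := e.adj.right_triangle_components F
        exact IsIso.of_isIso_fac_right h'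
      exact (NatTrans.isIso_app_iff_of_iso e.adj.unit i).1 h0
    haveI := ShortComplex.isIso₂_of_shortExact_of_isIso₁₃' m hS hS'' (hu e₁) (hu e₃)
    exact ⟨e.pull.obj S.X₂, a₂, ⟨(asIso m.τ₂).symm⟩⟩

variable [SiteCmp.HasRpushD (SiteCmp.eps h O)] (adj : SiteCmp.pullD (SiteCmp.eps h O) ⊣ SiteCmp.RpushD (SiteCmp.eps h O))

include h3 h4 in
lemma isZero_homology_eps_single (F : ModSite.Mod O) (hF : A F) (i : ℤ) (hi : 0 < i) :
    IsZero ((DerivedCategory.homologyFunctor (ModSite.Mod (SiteCmp.epsRing h O)) i).obj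
      ((SiteCmp.RpushD (SiteCmp.eps h O)).obj ((DerivedCategory.singleFunctor (ModSite.Mod O) 0).obj F))) := by
  refine isZero_homology_rpush _ _ i fun V => ?_
  obtain ⟨ι, Z, g, hcov, hZ⟩ := h3 V
  refine ⟨ι, Z, g, hcov, fun j => ?_⟩
  obtain ⟨p, rfl⟩ : ∃ p : ℕ, i = (p : ℤ) := ⟨i.toNat, by omega⟩
  exact HDU.modVan O F p (by omega) (Z j) (h4 _ (hZ j) F hF p (by omega))

include h3 h4 in
/-- the unit at objects coming from the subcategory -/
theorem isIso_unit_eps (F' : ModSite.Mod (SiteCmp.epsRing h O)) (hF' : A.map (SiteCmp.eps h O).push F') :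
    IsIso (adj.unit.app (SiteCmp.inD (SiteCmp.epsRing h O) F')) := by
  let e := SiteCmp.eps h O
  haveI : IsIso e.adj.counit := Adjunction.counit_isIso_of_R_fully_faithful e.adj
  obtain ⟨F, hF, ⟨i⟩⟩ := hF'
  have hu : IsIso (e.adj.unit.app F') := by
    have h0 : IsIso (e.adj.unit.app (e.push.obj F)) := by
      have h' := e.adj.right_triangle_components F
      exact IsIso.of_isIso_fac_right h'
    exact (NatTrans.isIso_app_iff_of_iso e.adj.unit i).1 h0
  let qC := HomotopyCategory.quotient (ModSite.Mod O) (ComplexShape.up ℤ)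
  let qD := HomotopyCategory.quotient (ModSite.Mod (SiteCmp.epsRing h O)) (ComplexShape.up ℤ)
  let W := qD.obj ((CochainComplex.singleFunctor _ 0).obj F')
  let eD : DerivedCategory.Qh.obj W ≅ SiteCmp.inD (SiteCmp.epsRing h O) F' :=
    (DerivedCategory.quotientCompQhIso _).app _
  have hpF : A (e.pull.obj F') :=
    A.prop_of_iso (e.pull.mapIso i.symm ≪≫ asIso (e.adj.counit.app F)).symm hF
  have hsingle : IsIso ((unit e).app (qC.obj ((CochainComplex.singleFunctor _ 0).obj (e.pull.obj F')))) :=
    isIso_unit_single e _ fun j hj => by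
      rcases lt_or_gt_of_ne hj with hj' | hj'
      · exact (DerivedCategory.isGE_iff _ 0).1 (preservesGE_rpush e _ 0 inferInstance) j hj'
      · exact isZero_homology_eps_single h O A B h3 h4 _ hpF j hj'
  let k : (pullK e).obj W ≅ qC.obj ((CochainComplex.singleFunctor _ 0).obj (e.pull.obj F')) :=
    qC.mapIso ((HomologicalComplex.singleMapHomologicalComplex e.pull (ComplexShape.up ℤ) 0).app F')
  have hk : IsIso ((unit e).app ((pullK e).obj W)) := (NatTrans.isIso_app_iff_of_iso (unit e) k).2 hsingle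
  have hadj : IsIso ((adjK e).unit.app W) := by
    have : IsIso ((KInj.mapHomologicalComplexAdj e.adj (ComplexShape.up ℤ)).unit.app W.as) := by
      haveI : ∀ n, IsIso (((KInj.mapHomologicalComplexAdj e.adj (ComplexShape.up ℤ)).unit.app W.as).f n) := fun n => by
        change IsIso (e.adj.unit.app (((CochainComplex.singleFunctor _ 0).obj F').X n))
        by_cases hn : n = 0
        · subst hn
          exact (NatTrans.isIso_app_iff_of_iso e.adj.unit
            (HomologicalComplex.singleObjXSelf (ComplexShape.up ℤ) 0 F').symm).1 hu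
        · have hz := HomologicalComplex.isZero_single_obj_X (ComplexShape.up ℤ) 0 F' n hn
          exact ⟨0, hz.eq_of_src _ _, (e.push.map_isZero (e.pull.map_isZero hz)).eq_of_src _ _⟩
      exact HomologicalComplex.Hom.isIso_of_components _
    exact inferInstanceAs (IsIso (qD.map ((KInj.mapHomologicalComplexAdj e.adj (ComplexShape.up ℤ)).unit.app W.as)))
  haveI : IsIso (uMap e W) := by
    rw [uMap]
    infer_instance
  refine isIso_unit_of_uMap e adj _ (eD.inv ≫ uMap e W) fun N => ?_
  have hb := bijective_uMap e (good_single e F' (fAcyc_of_flat e F')) N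
  refine ⟨fun g g' hgg => hb.1 ?_, fun y => ?_⟩
  · simpa only [assoc, cancel_epi] using hgg
  · obtain ⟨g, hg⟩ := hb.2 (eD.hom ≫ y)
    refine ⟨g, ?_⟩
    dsimp only at hg ⊢
    rw [assoc, hg, Iso.inv_hom_id_assoc]

end TwoTopologies

end Groth.Agent.RPushSite
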