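import Mathlib.Algebra.Homology.Refinements
import Mathlib.Algebra.Homology.QuasiIso
import Mathlib.CategoryTheory.Abelian.Refinements

/-!
Resolutions `≤ 0` by chosen covers.
-/

set_option autoImplicit false
set_option backward.isDefEq.respectTransparency false
set_option backward.isDefEq.respectTransparency.types false

universe v u

open CategoryTheory Category Limits HomologicalComplex
open scoped ZeroObject

namespace Groth.Agent.RPushSite

variable {A : Type u} [Category.{v} A] [Abelian A] (P : A → A) (π : ∀ M, P M ⟶ M)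
  (G : CochainComplex A ℤ)

/-- a step of the resolution -/
structure St (k : ℕ) where
  /-- the term in degree `-k` -/
  X : A
  /-- its cycles -/
  Z : A
  /-- the inclusion of the cycles -/
  i : Z ⟶ X
  /-- the map to the target -/
  q : X ⟶ G.X (-(k : ℤ))

variable {G}

/-- what the next term covers -/
noncomputable abbrev St.W {k : ℕ} (s : St G k) : A :=
  pullback (s.i ≫ s.q) (G.d (-((k + 1 : ℕ) : ℤ)) (-(k : ℤ)))

/-- the next differential -/
noncomputable abbrev St.δ {k : ℕ} (s : St G k) : P s.W ⟶ s.X := π _ ≫ pullback.fst _ _ ≫ s.i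

/-- the next map to the target -/
noncomputable abbrev St.q' {k : ℕ} (s : St G k) : P s.W ⟶ G.X (-((k + 1 : ℕ) : ℤ)) :=
  π _ ≫ pullback.snd _ _

variable (G)

/-- all the steps -/
noncomputable def st : ∀ k : ℕ, St G k
  | 0 => ⟨P (kernel (G.d 0 1)), P (kernel (G.d 0 1)), 𝟙 _, π _ ≫ kernel.ι (G.d 0 1)⟩
  | k + 1 => ⟨P (St.W (st k)), kernel (St.δ P π (st k)), kernel.ι _, St.q' P π (st k)⟩

/-- the terms -/
noncomputable def resX : ℤ → A
  | Int.ofNat 0 => (st P π G 0).X
  | Int.ofNat (_ + 1) => 0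
  | Int.negSucc k => (st P π G (k + 1)).X

/-- the differential -/
noncomputable def resd : ∀ n : ℤ, resX P π G n ⟶ resX P π G (n + 1)
  | Int.ofNat 0 => 0
  | Int.ofNat (_ + 1) => 0
  | Int.negSucc 0 => St.δ P π (st P π G 0)
  | Int.negSucc (k + 1) => St.δ P π (st P π G (k + 1))

/-- the map to the target in each degree -/
noncomputable def resq : ∀ n : ℤ, resX P π G n ⟶ G.X n
  | Int.ofNat 0 => (st P π G 0).q
  | Int.ofNat (_ + 1) => 0
  | Int.negSucc k => (st P π G (k + 1)).q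

lemma resd_resd : ∀ n : ℤ, resd P π G n ≫ resd P π G (n + 1) = 0
  | Int.ofNat 0 => zero_comp
  | Int.ofNat (_ + 1) => zero_comp
  | Int.negSucc 0 => comp_zero
  | Int.negSucc 1 => by
    change (π _ ≫ pullback.fst _ _ ≫ kernel.ι (St.δ P π (st P π G 0))) ≫ St.δ P π (st P π G 0) = 0
    rw [assoc, assoc, kernel.condition, comp_zero, comp_zero]
  | Int.negSucc (k + 2) => by
    change (π _ ≫ pullback.fst _ _ ≫ kernel.ι (St.δ P π (st P π G (k + 1)))) ≫
      St.δ P π (st P π G (k + 1)) = 0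
    rw [assoc, assoc, kernel.condition, comp_zero, comp_zero]

/-- the resolution -/
noncomputable def res : CochainComplex A ℤ :=
  CochainComplex.of (resX P π G) (resd P π G) (resd_resd P π G)

lemma res_d (n : ℤ) : (res P π G).d n (n + 1) = resd P π G n := CochainComplex.of_d ..

lemma resq_resd : ∀ n : ℤ, resq P π G n ≫ G.d n (n + 1) = resd P π G n ≫ resq P π G (n + 1)
  | Int.ofNat 0 => by
    change (π _ ≫ kernel.ι (G.d 0 1)) ≫ G.d 0 1 = 0 ≫ _
    rw [assoc, kernel.condition, comp_zero, zero_comp]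
  | Int.ofNat (_ + 1) => by
    change (0 : _ ⟶ G.X _) ≫ _ = 0 ≫ _
    rw [zero_comp, zero_comp]
  | Int.negSucc 0 => by
    change (π _ ≫ pullback.snd _ _) ≫ G.d (-((0 + 1 : ℕ) : ℤ)) (-((0 : ℕ) : ℤ)) =
      (π _ ≫ pullback.fst _ _ ≫ (st P π G 0).i) ≫ (st P π G 0).q
    rw [assoc, assoc, assoc, pullback.condition]
  | Int.negSucc (k + 1) => by
    change (π _ ≫ pullback.snd _ _) ≫ G.d (-((k + 1 + 1 : ℕ) : ℤ)) (-((k + 1 : ℕ) : ℤ)) =
      (π _ ≫ pullback.fst _ _ ≫ (st P π G (k + 1)).i) ≫ (st P π G (k + 1)).q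
    rw [assoc, assoc, assoc, pullback.condition]

/-- the map to the target -/
noncomputable def resπ : res P π G ⟶ G where
  f := resq P π G
  comm' := by
    rintro n m (rfl : n + 1 = m)
    erw [res_d]
    exact resq_resd P π G n

lemma isZero_res_X : ∀ n : ℤ, 0 < n → IsZero ((res P π G).X n)
  | Int.ofNat 0, h => absurd h (lt_irrefl 0)
  | Int.ofNat (_ + 1), _ => isZero_zero A
  | Int.negSucc k, h => absurd h (by omega)

lemma res_X : ∀ n : ℤ, IsZero ((res P π G).X n) ∨ ∃ M, (res P π G).X n = P M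
  | Int.ofNat 0 => Or.inr ⟨_, rfl⟩
  | Int.ofNat (_ + 1) => Or.inl (isZero_zero A)
  | Int.negSucc _ => Or.inr ⟨_, rfl⟩

/-- the term in degree `-k` -/
noncomputable def eX : ∀ k : ℕ, (st P π G k).X ≅ (res P π G).X (-(k : ℤ))
  | 0 => Iso.refl _
  | _ + 1 => Iso.refl _

lemma eX_resπ : ∀ k : ℕ, (eX P π G k).hom ≫ (resπ P π G).f (-(k : ℤ)) = (st P π G k).q
  | 0 => id_comp _
  | _ + 1 => id_comp _

lemma eX_res_d : ∀ k : ℕ, (eX P π G (k + 1)).hom ≫ (res P π G).d (-((k + 1 : ℕ) : ℤ)) (-(k : ℤ)) =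
    St.δ P π (st P π G k) ≫ (eX P π G k).hom
  | 0 => ((id_comp _).trans (res_d P π G (Int.negSucc 0))).trans (comp_id _).symm
  | k + 1 => ((id_comp _).trans (res_d P π G (Int.negSucc (k + 1)))).trans (comp_id _).symm

/-- cycles in degree `-k` factor through the chosen cycles -/
lemma exists_fac_cycles : ∀ (k : ℕ) {T : A} (x : T ⟶ (res P π G).X (-(k : ℤ))),
    x ≫ (res P π G).d (-(k : ℤ)) (-(k : ℤ) + 1) = 0 →
      ∃ z : T ⟶ (st P π G k).Z, z ≫ (st P π G k).i ≫ (eX P π G k).hom = x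
  | 0, _, x, _ => ⟨x, (congrArg (x ≫ ·) (id_comp _)).trans (comp_id x)⟩
  | 1, _, x, hx => ⟨kernel.lift (St.δ P π (st P π G 0)) x
      ((congrArg (x ≫ ·) (res_d P π G (Int.negSucc 0))).symm.trans hx),
      (congrArg (_ ≫ ·) (comp_id _)).trans (kernel.lift_ι _ _ _)⟩
  | k + 2, _, x, hx => ⟨kernel.lift (St.δ P π (st P π G (k + 1))) x
      ((congrArg (x ≫ ·) (res_d P π G (Int.negSucc (k + 1)))).symm.trans hx),
      (congrArg (_ ≫ ·) (comp_id _)).trans (kernel.lift_ι _ _ _)⟩

/-- the chosen cycles are cycles -/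
lemma st_i_d : ∀ k : ℕ,
    (st P π G k).i ≫ (eX P π G k).hom ≫ (res P π G).d (-(k : ℤ)) (-(k : ℤ) + 1) = 0
  | 0 => (congrArg (_ ≫ ·) ((id_comp _).trans (res_d P π G (Int.ofNat 0)))).trans comp_zero
  | 1 => (congrArg (_ ≫ ·) ((id_comp _).trans (res_d P π G (Int.negSucc 0)))).trans
      (kernel.condition (St.δ P π (st P π G 0)))
  | k + 2 => (congrArg (_ ≫ ·) ((id_comp _).trans (res_d P π G (Int.negSucc (k + 1))))).trans
      (kernel.condition (St.δ P π (st P π G (k + 1))))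

variable [∀ M, Epi (π M)]

lemma quasiIsoAt_resπ_neg (k : ℕ) : QuasiIsoAt (resπ P π G) (-(k : ℤ)) := by
  rw [quasiIsoAt_iff_isIso_homologyMap]
  have hprev : (ComplexShape.up ℤ).prev (-(k : ℤ)) = -((k + 1 : ℕ) : ℤ) := by
    rw [CochainComplex.prev]
    omega
  have hnext : (ComplexShape.up ℤ).next (-(k : ℤ)) = -(k : ℤ) + 1 := CochainComplex.next ..
  have hmono : Mono (homologyMap (resπ P π G) (-(k : ℤ))) := by
    rw [mono_homologyMap_iff_up_to_refinements _ _ _ _ hprev hnext]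
    intro T x hx y hy
    obtain ⟨z, hz⟩ := exists_fac_cycles P π G k x hx
    have hw : z ≫ (st P π G k).i ≫ (st P π G k).q = y ≫ G.d (-((k + 1 : ℕ) : ℤ)) (-(k : ℤ)) := by
      rw [← hy, ← hz, assoc, assoc, eX_resπ]
    obtain ⟨T', p, hp, l, hl⟩ := surjective_up_to_refinements_of_epi (π (St.W (st P π G k)))
      (pullback.lift z y hw)
    refine ⟨T', p, hp, l ≫ (eX P π G (k + 1)).hom, ?_⟩
    refine Eq.trans ?_ (assoc _ _ _).symm
    refine Eq.trans ?_ (congrArg (l ≫ ·) (eX_res_d P π G k)).symm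
    simp only [assoc]
    rw [← assoc l, ← hl, assoc, pullback.lift_fst_assoc, hz]
  have hepi : Epi (homologyMap (resπ P π G) (-(k : ℤ))) := by
    rw [epi_homologyMap_iff_up_to_refinements _ _ _ _ hprev hnext]
    intro T y hy
    cases k with
    | zero =>
      obtain ⟨T', p, hp, l, hl⟩ := surjective_up_to_refinements_of_epi (π (kernel (G.d 0 1)))
        (kernel.lift (G.d 0 1) y hy)
      refine ⟨T', p, hp, l, (congrArg (l ≫ ·) (res_d P π G (Int.ofNat 0))).trans comp_zero, 0, ?_⟩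
      rw [zero_comp, add_zero]
      change p ≫ y = l ≫ π _ ≫ kernel.ι (G.d 0 1)
      rw [← assoc l, ← hl, assoc, kernel.lift_ι]
    | succ k =>
      have he : -((k + 1 : ℕ) : ℤ) + 1 = -(k : ℤ) := by omega
      rw [he] at hy
      have hw : (0 : T ⟶ (st P π G k).Z) ≫ (st P π G k).i ≫ (st P π G k).q =
          y ≫ G.d (-((k + 1 : ℕ) : ℤ)) (-(k : ℤ)) := by
        rw [hy, zero_comp]
      obtain ⟨T', p, hp, l, hl⟩ := surjective_up_to_refinements_of_epi (π (St.W (st P π G k)))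
        (pullback.lift 0 y hw)
      refine ⟨T', p, hp, l ≫ (eX P π G (k + 1)).hom, ?_, 0, ?_⟩
      · rw [he, assoc, eX_res_d]
        simp only [assoc]
        rw [← assoc l, ← hl, assoc, pullback.lift_fst_assoc, zero_comp, comp_zero]
      · rw [zero_comp, add_zero, assoc, eX_resπ]
        change p ≫ y = l ≫ π _ ≫ pullback.snd _ _
        rw [← assoc l, ← hl, assoc, pullback.lift_snd]
  exact isIso_of_mono_of_epi _

/-- the resolution is a quasi-isomorphism if the target has no positive cohomology -/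
theorem quasiIso_resπ (hG : ∀ n : ℤ, 0 < n → G.ExactAt n) : QuasiIso (resπ P π G) where
  quasiIsoAt n := by
    rcases le_or_gt n 0 with h | h
    · obtain ⟨k, rfl⟩ : ∃ k : ℕ, n = -(k : ℤ) := ⟨(-n).toNat, by omega⟩
      exact quasiIsoAt_resπ_neg P π G k
    · rw [quasiIsoAt_iff_exactAt' _ _ (hG n h), exactAt_iff]
      exact ShortComplex.exact_of_isZero_X₂ _ (isZero_res_X P π G n h)

end Groth.Agent.RPushSite
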