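import Groth.Agent.HDU.ModData
import Groth.Agent.SiteCoh.PushAcyclic
import Groth.Agent.RPushSite.Resolution
import Groth.Prelude.Def_SiteCmp
import Mathlib.Algebra.Homology.HomotopyCategory.MappingCone
import Mathlib.Algebra.Homology.DerivedCategory.Ext.ExactSequences

/-!
Modules acyclic for the direct images of injective modules, and exactness of the inverse image on them.
-/

set_option autoImplicit false
set_option linter.style.haveILetI false
set_option linter.unusedSectionVars false
set_option backward.isDefEq.respectTransparency false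
set_option backward.isDefEq.respectTransparency.types false
set_option maxHeartbeats 1000000

universe v u

open CategoryTheory Category Limits Opposite

namespace Groth.Agent.RPushSite

section General

variable {A : Type u} [Category.{v} A] [Abelian A] [HasExt.{v} A] [EnoughInjectives A]

open Abelian

/-- vanishing of higher `Ext` passes to coproducts -/
theorem subsingleton_ext_of_isColimit {ι : Type v} {X : ι → A} {c : Cofan X} (hc : IsColimit c) :
    ∀ (p : ℕ) (G : A), (∀ i (q : ℕ), Subsingleton (Ext (X i) G (q + 1))) →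
      Subsingleton (Ext c.pt G (p + 1))
  | 0, G, h => by
    have hS := SiteCoh.embedSeq_shortExact G
    refine SiteCoh.subsingleton_ext_one_of_lift hS c.pt fun φ => ?_
    choose ψ hψ using fun i => by
      haveI : Subsingleton (Ext (X i) (SiteCoh.embedSeq G).X₁ 1) := h i 0
      exact SiteCoh.exists_lift_of_subsingleton_ext_one hS (X i) (c.inj i ≫ φ)
    refine ⟨Cofan.IsColimit.desc hc ψ, Cofan.IsColimit.hom_ext hc _ _ fun i => ?_⟩
    rw [Cofan.IsColimit.fac_assoc, hψ]
  | p + 1, G, h => by
    have hS := SiteCoh.embedSeq_shortExact G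
    haveI : Subsingleton (Ext c.pt (SiteCoh.embedSeq G).X₃ (p + 1)) :=
      subsingleton_ext_of_isColimit hc p _ fun i q => by
        haveI : Subsingleton (Ext (X i) (SiteCoh.embedSeq G).X₁ (q + 1 + 1)) := h i (q + 1)
        exact SiteCoh.subsingleton_ext_quotient hS (X i) (q + 1)
    exact SiteCoh.subsingleton_ext_succ hS c.pt (p + 1)

end General

variable {C : Type u} [SmallCategory C] {J : GrothendieckTopology C} {D : Type u} [SmallCategory D]
  {K : GrothendieckTopology D} {O_C : Sheaf J CommRingCat.{u}} {O_D : Sheaf K CommRingCat.{u}}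
  (f : ModSite.RMor O_C O_D)

/-- acyclic for direct images of injectives -/
def FAcyc (F : ModSite.Mod O_D) : Prop :=
  haveI : IsGrothendieckAbelian.{u} (ModSite.Mod O_D) := KFlat.isGrothendieck O_D
  ∀ (E : ModSite.Mod O_C), Injective E → ∀ p : ℕ, Subsingleton (Abelian.Ext F (f.push.obj E) (p + 1))

/-- direct images of injectives have no higher cohomology -/
theorem subsingleton_hu_push (E : ModSite.Mod O_C) [Injective E] (p : ℕ) (V : D) :
    Subsingleton (ModSite.HU O_D (f.push.obj E) (p + 1) V) :=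
  SiteCoh.push_acyclic f.fn p (ModSite.toAb E) (fun U q => HDU.subsingleton_hu_injective O_C E q U) V

theorem fAcyc_freeMod (V : D) : FAcyc f (HDU.freeMod O_D V) := fun E hE p =>
  HDU.subsingleton_ext_of_hu O_D V p (f.push.obj E) (subsingleton_hu_push f E p V)

theorem fAcyc_of_isColimit {ι : Type u} {X : ι → ModSite.Mod O_D} {c : Cofan X} (hc : IsColimit c)
    (h : ∀ i, FAcyc f (X i)) : FAcyc f c.pt := by
  haveI : IsGrothendieckAbelian.{u} (ModSite.Mod O_D) := KFlat.isGrothendieck O_D
  exact fun E hE p => subsingleton_ext_of_isColimit hc p _ fun i q => h i E hE q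

theorem fAcyc_cover (F : ModSite.Mod O_D) : FAcyc f (KFlat.cover O_D F) := by
  let adj := PresheafOfModules.sheafificationAdjunction.{u} (R := ModSite.ringSh O_D)
    (𝟙 (ModSite.ringSh O_D).obj)
  let M := (SheafOfModules.forget (ModSite.ringSh O_D)).obj F
  have hL : PreservesColimitsOfSize.{u, u} (ModSite.sheafify O_D) := adj.leftAdjoint_preservesColimits
  haveI := hL.preservesColimitsOfShape.preservesColimit (K := Discrete.functor
    (PresheafOfModules.Elements.freeYoneda (M := M)))
  have hc := isColimitOfHasCoproductOfPreservesColimit (ModSite.sheafify O_D)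
    (PresheafOfModules.Elements.freeYoneda (M := M))
  exact fAcyc_of_isColimit f hc fun j => fAcyc_freeMod f j.1.unop

theorem fAcyc_of_isZero {F : ModSite.Mod O_D} (h : IsZero F) : FAcyc f F := by
  haveI : IsGrothendieckAbelian.{u} (ModSite.Mod O_D) := KFlat.isGrothendieck O_D
  refine fun E _ p => subsingleton_of_forall_eq 0 fun x => ?_
  rw [← Abelian.Ext.mk₀_id_comp x, h.eq_of_src (𝟙 F) 0, Abelian.Ext.mk₀_zero, Abelian.Ext.zero_comp]

theorem fAcyc_biprod {F G : ModSite.Mod O_D} (hF : FAcyc f F) (hG : FAcyc f G) : FAcyc f (F ⊞ G) := by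
  haveI : IsGrothendieckAbelian.{u} (ModSite.Mod O_D) := KFlat.isGrothendieck O_D
  refine fun E hE p => subsingleton_of_forall_eq 0 fun x => Abelian.Ext.biprod_ext ?_ ?_
  · exact @Subsingleton.elim _ (hF E hE p) _ _
  · exact @Subsingleton.elim _ (hG E hE p) _ _

theorem fAcyc_of_iso {F G : ModSite.Mod O_D} (e : F ≅ G) (hF : FAcyc f F) : FAcyc f G := by
  haveI : IsGrothendieckAbelian.{u} (ModSite.Mod O_D) := KFlat.isGrothendieck O_D
  refine fun E hE p => subsingleton_of_forall_eq 0 fun x => ?_
  have h1 : x = (Abelian.Ext.mk₀ e.inv).comp ((Abelian.Ext.mk₀ e.hom).comp x (zero_add _)) (zero_add _) := by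
    simp
  rw [h1, @Subsingleton.elim _ (hF E hE p) ((Abelian.Ext.mk₀ e.hom).comp x (zero_add _)) 0,
    Abelian.Ext.comp_zero]

theorem fAcyc_res (G : CochainComplex (ModSite.Mod O_D) ℤ) (n : ℤ) :
    FAcyc f ((res (KFlat.cover O_D) (KFlat.coverπ O_D) G).X n) := by
  rcases res_X (KFlat.cover O_D) (KFlat.coverπ O_D) G n with h | ⟨M, h⟩
  · exact fAcyc_of_isZero f h
  · rw [h]
    exact fAcyc_cover f M

/-- the kernel of a map of acyclic modules onto an acyclic one -/
theorem fAcyc_of_shortExact {S : ShortComplex (ModSite.Mod O_D)} (hS : S.ShortExact)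
    (h₂ : FAcyc f S.X₂) (h₃ : FAcyc f S.X₃) : FAcyc f S.X₁ := by
  haveI : IsGrothendieckAbelian.{u} (ModSite.Mod O_D) := KFlat.isGrothendieck O_D
  refine fun E hE p => subsingleton_of_forall_eq 0 fun x => ?_
  haveI := h₃ E hE (p + 1)
  obtain ⟨y, rfl⟩ := Abelian.Ext.contravariant_sequence_exact₁ hS _ x (show 1 + (p + 1) = p + 1 + 1 by omega)
    (Subsingleton.elim _ _)
  rw [@Subsingleton.elim _ (h₂ E hE p) y 0, Abelian.Ext.comp_zero]

/-- the inverse image keeps sequences with acyclic quotient exact -/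
theorem pull_shortExact {S : ShortComplex (ModSite.Mod O_D)} (hS : S.ShortExact) (h₃ : FAcyc f S.X₃) :
    (S.map f.pull).ShortExact := by
  haveI : IsGrothendieckAbelian.{u} (ModSite.Mod O_D) := KFlat.isGrothendieck O_D
  haveI : IsGrothendieckAbelian.{u} (ModSite.Mod O_C) := KFlat.isGrothendieck O_C
  have hmono : Mono (S.map f.pull).f := by
    obtain ⟨y, hy⟩ : ∃ y : Abelian.Ext S.X₂ (f.push.obj (Injective.under (f.pull.obj S.X₁))) 0,
        (Abelian.Ext.mk₀ S.f).comp y (zero_add 0) =
          Abelian.Ext.mk₀ (f.adj.homEquiv _ _ (Injective.ι (f.pull.obj S.X₁))) := by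
      haveI := h₃ (Injective.under (f.pull.obj S.X₁)) inferInstance 0
      exact Abelian.Ext.contravariant_sequence_exact₁ hS _ _ (show 1 + 0 = 1 from rfl)
        (Subsingleton.elim _ _)
    obtain ⟨ψ, rfl⟩ := (Abelian.Ext.mk₀_bijective _ _).2 y
    rw [Abelian.Ext.mk₀_comp_mk₀] at hy
    have h1 := congrArg (f.adj.homEquiv _ _).symm ((Abelian.Ext.mk₀_bijective _ _).1 hy)
    rw [Adjunction.homEquiv_naturality_left_symm, Equiv.symm_apply_apply] at h1
    haveI : Mono (Injective.ι (f.pull.obj S.X₁)) := Injective.ι_mono _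
    exact mono_of_mono_fac h1
  have := hS.epi_g
  exact { exact := ShortComplex.exact_of_g_is_cokernel _
            (CokernelCofork.mapIsColimit _ hS.gIsCokernel f.pull)
          mono_f := hmono
          epi_g := inferInstanceAs (Epi (f.pull.map S.g)) }

/-- the sequence of cycles -/
noncomputable abbrev cyclesSeq (P : CochainComplex (ModSite.Mod O_D) ℤ) (n : ℤ) :
    ShortComplex (ModSite.Mod O_D) :=
  ShortComplex.mk (P.iCycles n) (P.toCycles n (n + 1)) (by
    rw [← cancel_mono (P.iCycles (n + 1)), assoc, HomologicalComplex.toCycles_i, zero_comp,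
      HomologicalComplex.iCycles_d])

lemma cyclesSeq_shortExact (P : CochainComplex (ModSite.Mod O_D) ℤ) (hP : P.Acyclic) (n : ℤ) :
    (cyclesSeq P n).ShortExact := by
  have : Epi (P.toCycles n (n + 1)) := by
    have h := (P.exactAt_iff_isZero_homology (n + 1)).1 (hP (n + 1))
    let T : ShortComplex (ModSite.Mod O_D) :=
      ShortComplex.mk (P.toCycles n (n + 1)) (P.homologyπ (n + 1)) (by simp)
    have hT : T.Exact :=
      ShortComplex.exact_of_g_is_cokernel _ (P.homologyIsCokernel n (n + 1) (by simp))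
    exact hT.epi_f (h.eq_of_tgt _ _)
  refine { exact := ?_, mono_f := inferInstanceAs (Mono (P.iCycles n)), epi_g := this }
  rw [ShortComplex.exact_iff_exact_up_to_refinements]
  intro T x hx
  have hx' : x ≫ P.d n (n + 1) = 0 := by
    have h1 := congrArg (fun φ => φ ≫ P.iCycles (n + 1)) hx
    dsimp only at h1
    rw [assoc, zero_comp] at h1
    exact (congrArg (x ≫ ·) (P.toCycles_i n (n + 1))).symm.trans h1
  exact ⟨T, 𝟙 T, inferInstance, P.liftCycles x (n + 1) (by simp) hx', by simp⟩

/-- cycles of acyclic bounded above complexes of acyclic modules are acyclic -/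
theorem fAcyc_cycles (P : CochainComplex (ModSite.Mod O_D) ℤ) (hP : P.Acyclic) (b : ℤ)
    (hb : ∀ n, b < n → IsZero (P.X n)) (h : ∀ n, FAcyc f (P.X n)) : ∀ n, FAcyc f (P.cycles n) := by
  suffices ∀ (d : ℕ) n, b < n + d → FAcyc f (P.cycles n) from fun n => this (b + 1 - n).toNat n (by omega)
  intro d
  induction d with
  | zero => exact fun n hn => fAcyc_of_isZero f (IsZero.of_mono (P.iCycles n) (hb n (by omega)))
  | succ d ih =>
    exact fun n hn => fAcyc_of_shortExact f (cyclesSeq_shortExact P hP n) (h n) (ih (n + 1) (by omega))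

/-- the inverse image of an acyclic bounded above complex of acyclic modules is acyclic -/
theorem acyclic_pull (P : CochainComplex (ModSite.Mod O_D) ℤ) (hP : P.Acyclic) (b : ℤ)
    (hb : ∀ n, b < n → IsZero (P.X n)) (h : ∀ n, FAcyc f (P.X n)) :
    ((f.pull.mapHomologicalComplex (ComplexShape.up ℤ)).obj P).Acyclic := by
  intro m
  have hc := fun n => pull_shortExact f (cyclesSeq_shortExact P hP n) (fAcyc_cycles f P hP b hb h (n + 1))
  obtain ⟨n, rfl⟩ : ∃ n, m = n + 1 := ⟨m - 1, by omega⟩
  rw [HomologicalComplex.exactAt_iff' _ n (n + 1) (n + 1 + 1) (by simp) (by simp)]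
  have hd : ∀ k : ℤ, f.pull.map (P.toCycles k (k + 1)) ≫ f.pull.map (P.iCycles (k + 1)) =
      f.pull.map (P.d k (k + 1)) := fun k => by rw [← Functor.map_comp, HomologicalComplex.toCycles_i]
  rw [ShortComplex.exact_iff_exact_up_to_refinements]
  intro T x hx
  change T ⟶ f.pull.obj (P.X (n + 1)) at x
  change x ≫ f.pull.map (P.d (n + 1) (n + 1 + 1)) = 0 at hx
  haveI : Mono (f.pull.map (P.iCycles (n + 1 + 1))) := (hc (n + 1 + 1)).mono_f
  rw [← hd, ← assoc, ← zero_comp (f := f.pull.map (P.iCycles (n + 1 + 1))), cancel_mono] at hx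
  obtain ⟨T₁, p₁, hp₁, z, hz⟩ := (hc (n + 1)).exact.exact_up_to_refinements x hx
  change T₁ ⟶ f.pull.obj (P.cycles (n + 1)) at z
  change p₁ ≫ x = z ≫ f.pull.map (P.iCycles (n + 1)) at hz
  haveI : Epi (f.pull.map (P.toCycles n (n + 1))) := (hc n).epi_g
  obtain ⟨T₂, p₂, hp₂, y, hy⟩ := surjective_up_to_refinements_of_epi (f.pull.map (P.toCycles n (n + 1))) z
  refine ⟨T₂, p₂ ≫ p₁, epi_comp _ _, y, ?_⟩
  change (p₂ ≫ p₁) ≫ x = y ≫ f.pull.map (P.d n (n + 1))
  rw [assoc, hz, ← assoc, hy, assoc, hd]

/-- the inverse image preserves quasi-isomorphisms between such complexes -/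
theorem quasiIso_pull {P Q : CochainComplex (ModSite.Mod O_D) ℤ} (s : P ⟶ Q) [QuasiIso s] (b : ℤ)
    (hP : ∀ n, b < n → IsZero (P.X n)) (hQ : ∀ n, b < n → IsZero (Q.X n))
    (hP' : ∀ n, FAcyc f (P.X n)) (hQ' : ∀ n, FAcyc f (Q.X n)) :
    QuasiIso ((f.pull.mapHomologicalComplex (ComplexShape.up ℤ)).map s) := by
  have hac : (CochainComplex.mappingCone s).Acyclic := KFlat.mappingCone_acyclic s
  have h1 := acyclic_pull f (CochainComplex.mappingCone s) hac b
    (fun n hn => IsZero.of_iso ((biprod_isZero_iff _ _).2 ⟨hP _ (by omega), hQ n hn⟩)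
      (HomologicalComplex.homotopyCofiber.XIsoBiprod s n (n + 1) rfl))
    (fun n => fAcyc_of_iso f (HomologicalComplex.homotopyCofiber.XIsoBiprod s n (n + 1) rfl).symm
      (fAcyc_biprod f (hP' _) (hQ' n)))
  exact KFlat.quasiIso_of_acyclic_mappingCone _
    (KFlat.acyclic_of_iso (CochainComplex.mappingCone.mapHomologicalComplexIso s f.pull) h1)

end Groth.Agent.RPushSite
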