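import Groth.Agent.RPushSite.CohIn

/-!
`f^*` and `Rf_*` as inverse equivalences on objects with cohomology in weak Serre subcategories.
-/

set_option autoImplicit false
set_option linter.style.haveILetI false
set_option linter.unusedSectionVars false
set_option backward.isDefEq.respectTransparency false
set_option backward.isDefEq.respectTransparency.types false
set_option maxHeartbeats 1000000

universe u

open CategoryTheory Category Limits Opposite Pretriangulated DerivedCategory DerivedCategory.TStructure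

namespace Groth.Agent.RPushSite

attribute [local instance] HasDerivedCategory.standard

variable {C : Type u} [SmallCategory C] {J : GrothendieckTopology C} {D : Type u} [SmallCategory D]
  {K : GrothendieckTopology D} {O_C : Sheaf J CommRingCat.{u}} {O_D : Sheaf K CommRingCat.{u}}
  (f : ModSite.RMor O_C O_D) [PreservesFiniteLimits f.pull] [SiteCmp.HasRpushD f]
  (adj : SiteCmp.pullD f ⊣ SiteCmp.RpushD f)
  (A : ObjectProperty (ModSite.Mod O_C)) [WSerre.IsWeakSerre A]
  (A' : ObjectProperty (ModSite.Mod O_D)) [WSerre.IsWeakSerre A']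
  (h2a : ∀ F' : ModSite.Mod O_D, A' F' → A (f.pull.obj F'))
  (h2b : ∀ F' G' : ModSite.Mod O_D, A' F' → A' G' → Function.Bijective (fun φ : F' ⟶ G' => f.pull.map φ))
  (h2c : ∀ F : ModSite.Mod O_C, A F → ∃ F' : ModSite.Mod O_D, A' F' ∧ Nonempty (f.pull.obj F' ≅ F))
  (h3 : ∀ F' : ModSite.Mod O_D, A' F' → IsIso (adj.unit.app (SiteCmp.inD O_D F')))

include adj h2c h3 in
/-- higher direct images of the subcategory -/
theorem rpush_of_equivalence [HasInjectiveResolutions (ModSite.Mod O_C)] (F : ModSite.Mod O_C) (hF : A F) (p : ℕ) :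
    A' ((f.Rpush p).obj F) ∧ ((0 : ℤ) < (p : ℤ) → IsZero ((f.Rpush p).obj F)) := by
  obtain ⟨M, hM, ⟨e⟩⟩ := h2c F hF
  have := h3 M hM
  let e' : (DerivedCategory.singleFunctor (ModSite.Mod O_D) 0).obj M ≅
      (SiteCmp.RpushD f).obj ((DerivedCategory.singleFunctor (ModSite.Mod O_C) 0).obj F) :=
    asIso (adj.unit.app (SiteCmp.inD O_D M)) ≪≫ (SiteCmp.RpushD f).mapIso
      ((f.pull.mapDerivedCategorySingleFunctor 0).app M ≪≫
        (DerivedCategory.singleFunctor (ModSite.Mod O_C) 0).mapIso e)
  obtain ⟨e''⟩ := nonempty_homology_single f F p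
  let i := (DerivedCategory.homologyFunctor (ModSite.Mod O_D) (p : ℤ)).mapIso e' ≪≫ e''
  rcases Nat.eq_zero_or_pos p with rfl | hp
  · exact ⟨A'.prop_of_iso ((WayOut.singleHomologyIso M 0).symm ≪≫ i) hM, fun h => absurd h (by simp)⟩
  · have hz : IsZero ((f.Rpush p).obj F) :=
      (DerivedCategory.isZero_of_isLE _ 0 (p : ℤ) (by omega)).of_iso i.symm
    obtain ⟨Z, hZ, hPZ⟩ := A'.exists_prop_of_containsZero
    exact ⟨A'.prop_of_iso (hZ.iso hz) hPZ, fun _ => hz⟩

include adj h2a h2b h2c h3 in
/-- the equivalence, given the truncation property of `Rf_*` -/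
theorem equivalence_cohIn
    (hkey : ∀ X : DerivedCategory (ModSite.Mod O_C), WSerre.cohIn A X →
      WSerre.cohIn A' ((SiteCmp.RpushD f).obj X) ∧ ∀ (n : ℕ) (j : ℤ), -(n : ℤ) ≤ j →
        IsIso ((DerivedCategory.homologyFunctor (ModSite.Mod O_D) j).map
          ((SiteCmp.RpushD f).map (CohCx.toTruncTower X n)))) :
    (∀ Y : DerivedCategory (ModSite.Mod O_D), WSerre.cohIn A' Y →
      WSerre.cohIn A ((SiteCmp.pullD f).obj Y) ∧ IsIso (adj.unit.app Y)) ∧
    (∀ X : DerivedCategory (ModSite.Mod O_C), WSerre.cohIn A X →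
      WSerre.cohIn A' ((SiteCmp.RpushD f).obj X) ∧ IsIso (adj.counit.app X)) := by
  have hH := fun (Y : DerivedCategory (ModSite.Mod O_D)) (i : ℤ) => WayOut.mapDerivedHomologyIso f.pull Y i
  have hpull : ∀ Y, WSerre.cohIn A' Y → WSerre.cohIn A ((SiteCmp.pullD f).obj Y) := fun Y hY i =>
    A.prop_of_iso (hH Y i).symm (h2a _ (hY i))
  have hcounit : ∀ X, WSerre.cohIn A X → IsIso (adj.counit.app X) := by
    intro X hX
    rw [DerivedCategory.isIso_iff]
    intro j
    obtain ⟨n, hn⟩ : ∃ n : ℕ, -(n : ℤ) + 1 ≤ j := ⟨(1 - j).toNat, by omega⟩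
    have hτ : IsIso (adj.counit.app (CohCx.truncTower X n)) := by
      refine ((WayOut.equivalence_cohInPlus adj A A' h2a (fun N hN => h2c N hN) h3).2 _
        ⟨fun i => ?_, -(n : ℤ), HDU.isGE_truncGE X _⟩).2
      rcases le_or_gt (-(n : ℤ)) i with hi | hi
      · have := HDU.isIso_H_truncGEπ X _ i hi
        exact A.prop_of_iso (asIso ((DerivedCategory.homologyFunctor (ModSite.Mod O_C) i).map
          (CohCx.toTruncTower X n))) (hX i)
      · obtain ⟨Z, hZ, hPZ⟩ := A.exists_prop_of_containsZero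
        have : (CohCx.truncTower X n).IsGE (-(n : ℤ)) := HDU.isGE_truncGE X _
        exact A.prop_of_iso (hZ.iso (DerivedCategory.isZero_of_isGE _ _ i hi)) hPZ
    have hp : IsIso ((DerivedCategory.homologyFunctor (ModSite.Mod O_C) j).map
        ((SiteCmp.pullD f).map ((SiteCmp.RpushD f).map (CohCx.toTruncTower X n)))) := by
      obtain ⟨Z, g, h, hT⟩ := distinguished_cocone_triangle ((SiteCmp.RpushD f).map (CohCx.toTruncTower X n))
      have hz : ∀ i, -(n : ℤ) ≤ i →
          IsZero ((DerivedCategory.homologyFunctor (ModSite.Mod O_D) i).obj Z) := fun i hi => by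
        have := (hkey X hX).2 n i hi
        have := (hkey X hX).2 n (i + 1) (by omega)
        refine (HomologySequence.exact₃ _ hT i (i + 1) rfl).isZero_of_both_zeros ?_ ?_
        · rw [← cancel_epi ((DerivedCategory.homologyFunctor (ModSite.Mod O_D) i).map
            ((SiteCmp.RpushD f).map (CohCx.toTruncTower X n))), comp_zero, ← Functor.map_comp]
          exact ((DerivedCategory.homologyFunctor (ModSite.Mod O_D) i).congr_map
            (comp_distTriang_mor_zero₁₂ _ hT)).trans (Functor.map_zero _ _ _)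
        · rw [← cancel_mono ((DerivedCategory.homologyFunctor (ModSite.Mod O_D) (i + 1)).map
            ((SiteCmp.RpushD f).map (CohCx.toTruncTower X n))), zero_comp]
          exact HomologySequence.δ_comp _ hT i (i + 1) rfl
      have hT' := (SiteCmp.pullD f).map_distinguished _ hT
      have hz' : ∀ i, -(n : ℤ) ≤ i →
          IsZero ((DerivedCategory.homologyFunctor (ModSite.Mod O_C) i).obj ((SiteCmp.pullD f).obj Z)) :=
        fun i hi => (f.pull.map_isZero (hz i hi)).of_iso (hH Z i)
      have : Epi ((DerivedCategory.homologyFunctor (ModSite.Mod O_C) j).map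
          ((SiteCmp.pullD f).map ((SiteCmp.RpushD f).map (CohCx.toTruncTower X n)))) :=
        (HomologySequence.exact₂ _ hT' j).epi_f ((hz' j (by omega)).eq_of_tgt _ _)
      have : Mono ((DerivedCategory.homologyFunctor (ModSite.Mod O_C) j).map
          ((SiteCmp.pullD f).map ((SiteCmp.RpushD f).map (CohCx.toTruncTower X n)))) :=
        (HomologySequence.exact₁ _ hT' (j - 1) j (by omega)).mono_g
          ((hz' (j - 1) (by omega)).eq_of_src _ _)
      exact isIso_of_mono_of_epi _
    have hπ := HDU.isIso_H_truncGEπ X (-(n : ℤ)) j (by omega)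
    have heq := congrArg (DerivedCategory.homologyFunctor (ModSite.Mod O_C) j).map
      (adj.counit.naturality (CohCx.toTruncTower X n))
    rw [Functor.comp_map, Functor.id_map, Functor.map_comp, Functor.map_comp] at heq
    exact IsIso.of_isIso_fac_right heq.symm
  refine ⟨fun Y hY => ⟨hpull Y hY, ?_⟩, fun X hX => ⟨(hkey X hX).1, hcounit X hX⟩⟩
  obtain ⟨Z, g, h, hT⟩ := distinguished_cocone_triangle (adj.unit.app Y)
  have hZ : WSerre.cohIn A' Z :=
    (WayOut.stable_cohIn A').ext _ (rot_of_distTriang _ hT) (hkey _ (hpull Y hY)).1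
      ((WayOut.stable_cohIn A').shift 1 hY)
  have : IsIso ((SiteCmp.pullD f).map (adj.unit.app Y)) := by
    have := hcounit _ (hpull Y hY)
    haveI : IsIso ((SiteCmp.pullD f).map (adj.unit.app Y) ≫ adj.counit.app ((SiteCmp.pullD f).obj Y)) := by
      refine ⟨𝟙 ((SiteCmp.pullD f).obj Y), ?_, ?_⟩
      · rw [adj.left_triangle_components Y]; exact comp_id _
      · rw [adj.left_triangle_components Y]; exact comp_id _
    exact IsIso.of_isIso_comp_right _ (adj.counit.app ((SiteCmp.pullD f).obj Y))
  have hz : IsZero ((SiteCmp.pullD f).obj Z) :=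
    (Triangle.isZero₃_iff_isIso₁ _ ((SiteCmp.pullD f).map_distinguished _ hT)).2 this
  refine (Triangle.isZero₃_iff_isIso₁ _ hT).1 ?_
  have hall : ∀ i : ℤ, IsZero ((DerivedCategory.homologyFunctor (ModSite.Mod O_D) i).obj Z) := fun i => by
    have h0 : IsZero (f.pull.obj ((DerivedCategory.homologyFunctor (ModSite.Mod O_D) i).obj Z)) :=
      ((DerivedCategory.homologyFunctor (ModSite.Mod O_C) i).map_isZero hz).of_iso (hH Z i).symm
    exact (IsZero.iff_id_eq_zero _).2 ((h2b _ _ (hZ i) (hZ i)).1 (h0.eq_of_src _ _))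
  have : Z.IsLE 0 := (isLE_iff Z 0).2 fun i _ => hall i
  have : Z.IsGE 1 := (isGE_iff Z 1).2 fun i _ => hall i
  exact TStructure.t.isZero Z 0 1 (by omega)

end Groth.Agent.RPushSite
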